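import Groth.Agent.PerfSch.GlobalSections
import Groth.Agent.Props.GenPull
import Groth.Agent.Props.AmpleBase
import Groth.Agent.PicCl.Basic

/-!
# Descending sections of powers of invertible modules along a perfection
-/

set_option autoImplicit false
set_option linter.style.haveILetI false
set_option backward.isDefEq.respectTransparency false
set_option backward.isDefEq.respectTransparency.types false

universe u

open CategoryTheory CategoryTheory.Limits AlgebraicGeometry Opposite TopologicalSpace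

noncomputable section

namespace Groth.Agent.PerfSch.DescSec

open Groth.Agent.PerfSch.Ring Groth.Agent.PerfSch.Perfect Groth.Agent.PerfSch.Perfection
open Groth.Agent.QCoh Groth.Agent.Props.GenLocus Groth.Agent.Props.GenTensor Groth.Agent.Props.GenProd
  Groth.Agent.Props.GenExt Groth.Agent.Props.GenPull

variable {X : Scheme.{u}} {L M : X.Modules}

theorem isGen_map_iso (φ : L ⟶ M) [IsIso φ] {U : X.Opens} {e : Γ(L, U)} (he : IsGen L U e) :
    IsGen M U (φ.app U e) := by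
  intro V hV
  have : sm (φ.app U e) hV = (φ.app V) ∘ sm e hV := funext fun a => by
    simp only [sm, Function.comp_apply, Scheme.Modules.Hom.app_smul, QCoh.app_res]
  rw [this]
  exact ((ConcreteCategory.isIso_iff_bijective _).1 inferInstance).comp (he V hV)

theorem nonempty_iso_of_isGen {σ : Γ(L, ⊤)} (h : IsGen L ⊤ σ) : Nonempty (Coh.structureModule X ≅ L) := by
  haveI : IsIso (homOfSec σ) := LFFrame.isIso_of_locally_bijective _ fun x => ⟨⊤, trivial, fun V hV => by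
    rw [show ⇑(ConcreteCategory.hom ((homOfSec σ).app V)) = sm σ hV from funext fun a => by
      rw [app_eq, sec_homOfSec]]
    exact h V hV⟩
  exact ⟨asIso (homOfSec σ)⟩

theorem exists_isGen_of_iso (φ : Coh.structureModule X ≅ L) : ∃ σ : Γ(L, ⊤), IsGen L ⊤ σ :=
  ⟨_, isGen_map_iso φ.hom (isGen_one ⊤)⟩

/-- A finite affine trivialising cover. -/
theorem exists_cover [CompactSpace X] (hL : PicF.IsInvertible L) :
    ∃ (ι : Type u) (_ : Fintype ι) (W : ι → X.Opens) (e : ∀ i, Γ(L, W i)),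
      (∀ i, IsAffineOpen (W i)) ∧ (∀ i, IsGen L (W i) (e i)) ∧ ⊤ ≤ iSup W := by
  classical
  have key : ∀ x : X, ∃ (W : X.Opens) (e : Γ(L, W)), x ∈ W ∧ IsAffineOpen W ∧ IsGen L W e := by
    intro x
    obtain ⟨U, e, hxU, he⟩ := exists_isGen hL x
    obtain ⟨W, hW, hxW, hWU⟩ := exists_isAffineOpen_mem_and_subset (U := U) (x := x) hxU
    exact ⟨W, res L hWU e, hxW, hW, he.restrict hWU⟩
  choose W₀ e₀ hxW₀ hW₀ he₀ using key
  obtain ⟨F, hF⟩ := isCompact_univ.elim_finite_subcover (fun x : X => (W₀ x : Set X))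
    (fun x => (W₀ x).2) fun x _ => Set.mem_iUnion.mpr ⟨x, hxW₀ x⟩
  refine ⟨F, inferInstance, fun i => W₀ i, fun i => e₀ i, fun i => hW₀ _, fun i => he₀ _, fun x _ => ?_⟩
  obtain ⟨y, hy, hxy⟩ := Set.mem_iUnion₂.mp (hF (Set.mem_univ x))
  exact Opens.mem_iSup.mpr ⟨⟨y, hy⟩, hxy⟩

variable {p : ℕ} [hp : Fact p.Prime] {XP : Scheme.{u}} [FrobSch.IsCharP XP p] [FrobSch.IsCharP X p]
  {π : XP ⟶ X}

theorem pb_transition {W W' : X.Opens} {e : Γ(L, W)} {e' : Γ(L, W')} {u : Γ(X, W ⊓ W')}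
    (hu : res L (inf_le_right : W ⊓ W' ≤ W') e' = u • res L (inf_le_left : W ⊓ W' ≤ W) e) :
    res _ (π.preimage_mono (inf_le_right : W ⊓ W' ≤ W')) (pb π e') =
      π.app (W ⊓ W') u • res _ (π.preimage_mono (inf_le_left : W ⊓ W' ≤ W)) (pb π e) := by
  have h1 := congrArg (LFFrame.unitSec π L (W ⊓ W')) hu
  rw [LFFrame.unitSec_smul, LFFrame.unitSec_res, LFFrame.unitSec_res] at h1
  exact h1

/-- Sections of powers descend up to `p`-powers. -/
theorem exists_descend (hπ : FrobSch.IsPerfection π p) [CompactSpace X] [QuasiSeparatedSpace X]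
    (hL : PicF.IsInvertible L) (K : ℕ)
    (s' : Coh.structureModule XP ⟶ CohB1.tensorPow ((Scheme.Modules.pullback π).obj L) K) :
    ∃ (n : ℕ) (s : Coh.structureModule X ⟶ CohB1.tensorPow L (K * p ^ n)),
      π ⁻¹ᵁ CohB1.genLocus _ s = CohB1.genLocus _ s' := by
  obtain ⟨ι, _, W, e, hW, he, hcov⟩ := exists_cover hL
  let c : ∀ i, Γ(XP, π ⁻¹ᵁ W i) := fun i => co K (sec s' ⊤) le_top (isGen_pb π (he i))
  choose n₀ a₀ ha₀ using fun i => (affineOpen_case hπ (hW i)).2.1 (c i)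
  let n := Finset.univ.sup n₀
  obtain ⟨a, ha⟩ : ∃ a : ∀ i, Γ(X, W i), ∀ i, π.app (W i) (a i) = c i ^ p ^ n :=
    ⟨fun i => a₀ i ^ p ^ (n - n₀ i), fun i => by
      rw [map_pow, ha₀, pow_q_pow_q, Nat.add_sub_of_le (Finset.le_sup (f := n₀) (Finset.mem_univ i))]⟩
  have hd : ∀ q : ι × ι, ∃ m : ℕ, ∀ u : Γ(X, W q.1 ⊓ W q.2),
      res L (inf_le_right : W q.1 ⊓ W q.2 ≤ W q.2) (e q.2) = u • res L (inf_le_left : W q.1 ⊓ W q.2 ≤ W q.1) (e q.1) →
      rres (inf_le_left : W q.1 ⊓ W q.2 ≤ W q.1) (a q.1) ^ p ^ m =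
        (u ^ (K * p ^ n) * rres (inf_le_right : W q.1 ⊓ W q.2 ≤ W q.2) (a q.2)) ^ p ^ m := by
    rintro ⟨i, j⟩
    obtain ⟨u, -, hu⟩ := exists_unit_smul ((he i).restrict (inf_le_left : W i ⊓ W j ≤ W i))
      ((he j).restrict (inf_le_right : W i ⊓ W j ≤ W j))
    have hcpt : IsCompact (W i ⊓ W j : X.Opens).1 :=
      QuasiSeparatedSpace.inter_isCompact _ _ (W i).2 (hW i).isCompact (W j).2 (hW j).isCompact
    have h3 : rres (π.preimage_mono (inf_le_left : W i ⊓ W j ≤ W i)) (c i) =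
        π.app _ u ^ K * rres (π.preimage_mono (inf_le_right : W i ⊓ W j ≤ W j)) (c j) := by
      simp only [c, co_res]
      exact co_of_eq_smul _ _ _ _ (pb_transition hu)
    obtain ⟨m, hm⟩ := GlobalSections.exists_pow_eq_zero hπ hcpt
      (rres (inf_le_left : W i ⊓ W j ≤ W i) (a i) - u ^ (K * p ^ n) * rres (inf_le_right : W i ⊓ W j ≤ W j) (a j))
      (by rw [map_sub, map_mul, map_pow, app_rres, app_rres, ha, ha, map_pow, map_pow, h3, mul_pow, ← pow_mul, sub_self])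
    refine ⟨m, fun u' hu' => ?_⟩
    obtain rfl : u' = u :=
      ((he i).restrict (inf_le_left : W i ⊓ W j ≤ W i)).injective le_rfl
        (by rw [res_self]; exact hu'.symm.trans hu)
    rwa [sub_pow_q (FrobSch.natCast_eq_zero_app X p _), sub_eq_zero] at hm
  choose m₀ hm₀ using hd
  let m := Finset.univ.sup m₀
  obtain ⟨s, hs⟩ := exists_hom_of_cover W hcov e he (K * p ^ (n + m)) (fun i => a i ^ p ^ m)
    fun i j u hu => by
      have h1 := congrArg (· ^ p ^ (m - m₀ (i, j))) (hm₀ (i, j) u hu)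
      have hm : m₀ (i, j) + (m - m₀ (i, j)) = m := Nat.add_sub_of_le (Finset.le_sup (f := m₀) (Finset.mem_univ (i, j)))
      simp only [pow_q_pow_q, hm] at h1
      rw [map_pow, map_pow, h1, mul_pow, ← pow_mul, Nat.mul_assoc, ← pow_add]
  refine ⟨n + m, s, Props.GenProd.genLocus_ext (L := (Scheme.Modules.pullback π).obj L)
    (PicCl.isInvertible_pullback π hL) fun V ε hε => ?_⟩
  -- compare on the preimages of the cover
  ext x
  obtain ⟨i, hi⟩ := Opens.mem_iSup.1 (hcov (trivial : π x ∈ (⊤ : X.Opens)))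
  have h1 : (π ⁻¹ᵁ CohB1.genLocus _ s) ⊓ π ⁻¹ᵁ W i = CohB1.genLocus _ s' ⊓ π ⁻¹ᵁ W i := by
    rw [← Scheme.Hom.preimage_inf, (hs i).2, Scheme.preimage_basicOpen, map_pow, ha, pow_q_pow_q,
      Scheme.basicOpen_pow _ _ (q_pos _), genLocus_inf_eq (isGen_pb π (he i)) s']
  have h2 := congrArg (fun O : XP.Opens => x ∈ O) h1
  simp only [eq_iff_iff] at h2
  change (_ ∧ x ∈ V) ↔ (_ ∧ x ∈ V)
  refine and_congr_left' ?_
  exact ⟨fun h => (h2.1 ⟨h, hi⟩).1, fun h => (h2.2 ⟨h, hi⟩).1⟩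

theorem exists_isGen_of_pow (hπ : FrobSch.IsPerfection π p) [CompactSpace X] (hL : PicF.IsInvertible L)
    {n : ℕ} {τ : Γ(CohB1.tensorPow L (p ^ n), ⊤)} (hτ : IsGen _ ⊤ τ) :
    ∃ σ : Γ((Scheme.Modules.pullback π).obj L, ⊤), IsGen _ ⊤ σ := by
  obtain ⟨ι, _, W, e, hW, he, hcov⟩ := exists_cover hL
  have hu : ∀ i, ∃ a : Γ(X, W i), IsUnit a ∧ res _ (le_top : W i ≤ ⊤) τ = a • pw L (e i) (p ^ n) := fun i =>
    exists_unit_smul (isGen_pw (he i) _) (hτ.restrict le_top)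
  choose a haU ha using hu
  choose h hh using fun i => (perfRing_of_isPerfect hπ.1 (π ⁻¹ᵁ W i)).exists_root (π.app (W i) (a i)) n
  have hhU : ∀ i, IsUnit (h i) := fun i =>
    (isUnit_pow_iff (q_pos (p := p) n).ne').1 (hh i ▸ (haU i).map (π.app (W i)).hom)
  obtain ⟨σ, hσ⟩ := exists_glue ((Scheme.Modules.pullback π).obj L) (fun i => (le_top : π ⁻¹ᵁ W i ≤ ⊤))
    (show ⊤ ≤ iSup fun i => π ⁻¹ᵁ W i from fun x _ => by
      obtain ⟨i, hi⟩ := Opens.mem_iSup.1 (hcov (trivial : π x ∈ (⊤ : X.Opens)))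
      exact Opens.mem_iSup.2 ⟨i, hi⟩)
    (fun i => h i • pb π (e i)) fun i j => by
      obtain ⟨u, -, hu⟩ := exists_unit_smul ((he i).restrict (inf_le_left : W i ⊓ W j ≤ W i))
        ((he j).restrict (inf_le_right : W i ⊓ W j ≤ W j))
      have h1 : rres (inf_le_left : W i ⊓ W j ≤ W i) (a i) =
          rres (inf_le_right : W i ⊓ W j ≤ W j) (a j) * u ^ (p ^ n) := by
        refine (isGen_pw ((he i).restrict (inf_le_left : W i ⊓ W j ≤ W i)) (p ^ n)).injective le_rfl ?_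
        rw [res_self, ← res_pw (inf_le_left : W i ⊓ W j ≤ W i) (e i), ← res_smul _ (inf_le_left : W i ⊓ W j ≤ W i), ← ha i, res_res, ← res_res _ (le_top : W j ≤ ⊤)
          (inf_le_right : W i ⊓ W j ≤ W j), ha j, res_smul, res_pw, hu, pw_smul, smul_smul, ← res_pw (inf_le_left : W i ⊓ W j ≤ W i) (e i)]
      have h2 : rres (π.preimage_mono (inf_le_left : W i ⊓ W j ≤ W i)) (h i) =
          rres (π.preimage_mono (inf_le_right : W i ⊓ W j ≤ W j)) (h j) * π.app _ u := by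
        refine (perfRing_of_isPerfect hπ.1 _).eq_of_pow_eq n ?_
        rw [mul_pow, ← map_pow, ← map_pow, ← map_pow, hh, hh, ← app_rres π (inf_le_left : W i ⊓ W j ≤ W i),
          ← app_rres π (inf_le_right : W i ⊓ W j ≤ W j), h1, map_mul]
      show res _ (π.preimage_mono (inf_le_left : W i ⊓ W j ≤ W i)) (h i • pb π (e i)) =
        res _ (π.preimage_mono (inf_le_right : W i ⊓ W j ≤ W j)) (h j • pb π (e j))
      rw [res_smul, res_smul, pb_transition hu, smul_smul, h2]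
  refine ⟨σ, IsGen.of_local fun x _ => ?_⟩
  obtain ⟨i, hi⟩ := Opens.mem_iSup.1 (hcov (trivial : π x ∈ (⊤ : X.Opens)))
  refine ⟨π ⁻¹ᵁ W i, le_top, hi, ?_⟩
  rw [hσ i]
  exact (isGen_pb π (he i)).smul_unit (hhU i)

theorem isTrivial_iff (hπ : FrobSch.IsPerfection π p) [CompactSpace X] [QuasiSeparatedSpace X]
    (hL : PicF.IsInvertible L) :
    PicF.IsTrivialCl (PicF.pullCl π (PicF.cl L)) ↔
      ∃ n : ℕ, PicF.IsTrivialCl (PicF.cl (CohB1.tensorPow L (p ^ n))) := by
  constructor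
  · intro h
    obtain ⟨φ⟩ := PicCl.nonempty_iso_of_cl_eq h
    obtain ⟨σ, hσ⟩ := exists_isGen_of_iso φ.symm
    have hone : IsGen (CohB1.tensorPow ((Scheme.Modules.pullback π).obj L) 1) ⊤ (pw _ σ 1) := isGen_pw hσ 1
    obtain ⟨n, s, hs⟩ := exists_descend hπ hL 1 (homOfSec (pw _ σ 1))
    have htop : CohB1.genLocus _ (homOfSec (pw _ σ 1)) = ⊤ :=
      top_le_iff.1 (le_genLocus (by rw [sec_homOfSec, res_self]; exact hone))
    have : CohB1.genLocus _ s = ⊤ := top_le_iff.1 fun z _ => by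
      obtain ⟨x, rfl⟩ := (Perfection.surjective hπ).surj z
      have hx : x ∈ π ⁻¹ᵁ CohB1.genLocus _ s := by rw [hs, htop]; trivial
      exact hx
    refine ⟨n, PicCl.cl_eq_of_iso ?_⟩
    have hg : IsGen _ ⊤ (sec s ⊤) := by
      have hg' := isGen_genLocus s
      rwa [this] at hg'
    have e := (nonempty_iso_of_isGen hg).some.symm
    rwa [one_mul] at e
  · rintro ⟨n, h⟩
    obtain ⟨φ⟩ := PicCl.nonempty_iso_of_cl_eq h
    obtain ⟨τ, hτ⟩ := exists_isGen_of_iso φ.symm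
    obtain ⟨σ, hσ⟩ := exists_isGen_of_pow hπ hL hτ
    exact PicCl.cl_eq_of_iso (nonempty_iso_of_isGen hσ).some.symm

theorem isAmple_iff (hπ : FrobSch.IsPerfection π p) [CompactSpace X] [QuasiSeparatedSpace X]
    (hL : PicF.IsInvertible L) :
    CohB1.IsAmple L ↔ CohB1.IsAmple ((Scheme.Modules.pullback π).obj L) := by
  haveI : IsAffineHom π := Perfection.isAffineHom hπ
  haveI : CompactSpace XP := QuasiCompact.compactSpace_of_compactSpace π
  constructor
  · intro h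
    exact Props.AmpleBase.isAmple_of_isBasis (PicCl.isInvertible_pullback π hL)
      (isBasis_pullback π (Perfection.isHomeomorph hπ).isInducing hL (isBasis_of_isAmple h))
  · rintro ⟨-, -, h⟩
    refine ⟨hL, inferInstance, fun z => ?_⟩
    obtain ⟨x, rfl⟩ := (Perfection.surjective hπ).surj z
    obtain ⟨k, s', hxs, haff⟩ := h x
    obtain ⟨n, s, hs⟩ := exists_descend hπ hL (k + 1) s'
    obtain ⟨N, t, ht⟩ := exists_succ (Nat.mul_pos (Nat.succ_pos k) (q_pos (p := p) n)) s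
    refine ⟨N, t, ?_, ?_⟩
    · rw [ht]; exact (hs ▸ hxs : x ∈ π ⁻¹ᵁ CohB1.genLocus _ s)
    · rw [ht]
      haveI : FrobSch.IsCharP (π ⁻¹ᵁ CohB1.genLocus _ s : XP.Opens) p :=
        FrobSch.IsCharP.of_hom (π ⁻¹ᵁ CohB1.genLocus _ s).ι p
      haveI : FrobSch.IsCharP (CohB1.genLocus _ s : X.Opens) p :=
        FrobSch.IsCharP.of_hom (CohB1.genLocus _ s).ι p
      haveI : IsAffine (π ⁻¹ᵁ CohB1.genLocus _ s : XP.Opens).toScheme := by rw [hs]; exact haff
      haveI : CompactSpace (CohB1.genLocus _ s : X.Opens) := by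
        refine isCompact_iff_compactSpace.mp ?_
        have := (hs ▸ haff : IsAffineOpen (π ⁻¹ᵁ CohB1.genLocus _ s)).isCompact.image π.continuous
        rwa [show ((π ⁻¹ᵁ CohB1.genLocus _ s : XP.Opens) : Set XP) = π ⁻¹' (CohB1.genLocus _ s : Set X) from rfl,
          Set.image_preimage_eq _ (Perfection.surjective hπ).surj] at this
      haveI : QuasiSeparatedSpace (CohB1.genLocus _ s : X.Opens) :=
        quasiSeparatedSpace_of_quasiSeparated (CohB1.genLocus _ s).ι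
      exact GlobalSections.isAffine_of_isAffine_perfection (Perfection.restrict hπ (CohB1.genLocus _ s))

end Groth.Agent.PerfSch.DescSec
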