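import Groth.Agent.PerfSch.Ring
import Groth.Prelude.Def_Frob
import Groth.Prelude.Def_Flat
import Groth.Prelude.Def_W4c1perfhdescPerf
import Mathlib.AlgebraicGeometry.Morphisms.UniversallyInjective
import Mathlib.AlgebraicGeometry.Morphisms.UniversallyClosed
import Mathlib.AlgebraicGeometry.Morphisms.IsIso
import Mathlib.AlgebraicGeometry.Morphisms.Affine

/-!
# Perfect schemes: affine criterion, opens, and universal homeomorphisms
-/

universe u

open CategoryTheory CategoryTheory.Limits AlgebraicGeometry Opposite TopologicalSpace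

set_option backward.isDefEq.respectTransparency.types false
set_option backward.isDefEq.respectTransparency false

namespace Groth.Agent.PerfSch.Perfect

open Groth.Agent.PerfSch.Ring

variable {p : ℕ} [hp : Fact p.Prime] {X : Scheme.{u}} [FrobSch.IsCharP X p]

theorem perfRing_of_isPerfect (h : FrobSch.IsPerfect X p) (U : X.Opens) : PerfRing p Γ(X, U) := by
  have : IsIso (FrobSch.frob X p) := h
  exact ⟨FrobSch.natCast_eq_zero_app X p U,
    ConcreteCategory.bijective_of_isIso ((FrobSch.frob X p).app U)⟩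

theorem isPerfect_of_cover {ι : Type*} (U : ι → X.affineOpens) (hU : ⨆ i, (U i : X.Opens) = ⊤)
    (h : ∀ i, PerfRing p Γ(X, (U i : X.Opens))) : FrobSch.IsPerfect X p := by
  refine IsZariskiLocalAtTarget.of_iSup_eq_top (P := MorphismProperty.isomorphisms Scheme)
    (f := FrobSch.frob X p) _ hU fun i => ?_
  have : IsAffine (U i).1 := (U i).2
  refine (HasAffineProperty.iff_of_isAffine (P := MorphismProperty.isomorphisms Scheme)).2
    ⟨(U i).2, ?_⟩
  rw [morphismRestrict_appTop]
  suffices ∀ V : X.Opens, V = (U i : X.Opens) → IsIso ((FrobSch.frob X p).app V) by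
    have := this _ (U i : X.Opens).ι_image_top
    exact IsIso.comp_isIso' this inferInstance
  rintro V rfl
  exact (ConcreteCategory.isIso_iff_bijective _).2 (h i).2

theorem isPerfect_of_isAffine [IsAffine X] (h : PerfRing p Γ(X, ⊤)) : FrobSch.IsPerfect X p :=
  isPerfect_of_cover (fun _ : Unit => ⟨⊤, isAffineOpen_top X⟩) (by simp) fun _ => h

theorem isPerfect_opens (h : FrobSch.IsPerfect X p) (U : X.Opens) [FrobSch.IsCharP U p] :
    FrobSch.IsPerfect (U : Scheme.{u}) p :=
  isPerfect_of_cover (fun V : (U : Scheme.{u}).affineOpens => V) (iSup_affineOpens_eq_top _)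
    fun V => perfRing_of_isPerfect h (U.ι ''ᵁ V)

omit hp in
theorem perfRing_of_perfSch {Z : Scheme.{u}} (h : _root_.PerfSch.IsPerfect p Z) (U : Z.Opens) :
    PerfRing p Γ(Z, U) := h U

omit hp in
theorem isCharP_of_perfSch {Z : Scheme.{u}} (h : _root_.PerfSch.IsPerfect p Z) :
    FrobSch.IsCharP Z p := ⟨(h ⊤).1⟩

theorem isPerfect_of_iso {Y : Scheme.{u}} [FrobSch.IsCharP Y p] (e : X ⟶ Y) [IsIso e]
    (h : FrobSch.IsPerfect X p) : FrobSch.IsPerfect Y p := by
  have := FrobSch.frob_comp p e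
  have : IsIso (e ≫ FrobSch.frob Y p) := by
    have h' : IsIso (FrobSch.frob X p) := h
    rw [← this]; infer_instance
  exact IsIso.of_isIso_comp_left e _

theorem charP_residueField (x : X) : CharP (X.residueField x) p :=
  (CharP.charP_iff_prime_eq_zero hp.out).2 (by
    have := congrArg (X.evaluation ⊤ x trivial).hom (FrobSch.IsCharP.natCast_eq_zero (X := X) (p := p))
    simpa using this)

theorem isPerfect_Spec_field (L : Type u) [Field L] [CharP L p] [PerfectRing L p] :
    FrobSch.IsPerfect (Spec (CommRingCat.of L)) p := by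
  refine isPerfect_of_isAffine (PerfRing.of_ringEquiv (M := L) ⟨CharP.cast_eq_zero L p, ?_⟩
    (Scheme.ΓSpecIso (CommRingCat.of L)).commRingCatIsoToRingEquiv.symm)
  exact PerfectRing.bijective_frobenius (R := L) (p := p)

section UnivHomeo

variable {W Z : Scheme.{u}} (f : W ⟶ Z)

theorem isUnivHomeo_iff : FlatMor.IsUnivHomeo f ↔
    UniversallyInjective f ∧ Surjective f ∧ UniversallyClosed f := by
  constructor
  · intro h
    refine ⟨⟨fun _ _ _ _ f' H => (h _ _ f' H).injective⟩, ⟨?_⟩,
      ⟨fun _ _ _ _ f' H => (h _ _ f' H).isClosedMap⟩⟩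
    exact (h _ _ f IsPullback.of_id_snd).surjective
  · rintro ⟨h1, h2, h3⟩ X' Y' i₁ i₂ f' H
    have h1' : UniversallyInjective f' := MorphismProperty.of_isPullback H.flip h1
    have h2' : Surjective f' := MorphismProperty.of_isPullback H.flip h2
    have h3' : UniversallyClosed f' := MorphismProperty.of_isPullback H.flip h3
    exact isHomeomorph_iff_continuous_isClosedMap_bijective.2
      ⟨f'.continuous, f'.isClosedMap, f'.injective, f'.surjective⟩

theorem isHomeomorph_of_isUnivHomeo (h : FlatMor.IsUnivHomeo f) : IsHomeomorph f :=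
  h _ _ f IsPullback.of_id_snd

/-- A universal homeomorphism is affine (indeed integral). -/
theorem isAffineHom_of_isUnivHomeo (h : FlatMor.IsUnivHomeo f) : IsAffineHom f := by
  have hf := isHomeomorph_of_isUnivHomeo f h
  let S := {V : Z.affineOpens // IsAffineOpen (f ⁻¹ᵁ V.1)}
  suffices hS : ⨆ V : S, (V.1.1 : Z.Opens) = ⊤ from
    IsZariskiLocalAtTarget.of_iSup_eq_top (P := @IsAffineHom) (fun V : S => V.1.1) hS fun V => by
      have : IsAffine V.1.1 := V.1.2
      exact (HasAffineProperty.iff_of_isAffine (P := @IsAffineHom)).2 V.2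
  refine eq_top_iff.2 fun z _ => ?_
  obtain ⟨w, rfl⟩ := hf.surjective z
  obtain ⟨_, ⟨V, hV, rfl⟩, hwV, -⟩ := Z.isBasis_affineOpens.exists_subset_of_mem_open
    (Set.mem_univ (f w)) isOpen_univ
  obtain ⟨_, ⟨U, hU, rfl⟩, hwU, hUV⟩ := W.isBasis_affineOpens.exists_subset_of_mem_open
    (show w ∈ (f ⁻¹ᵁ V : Set W) from hwV) (f ⁻¹ᵁ V).2
  obtain ⟨a, haU, hfa⟩ := hV.exists_basicOpen_le (V := ⟨f '' U, hf.isOpenMap _ U.2⟩)
    ⟨f w, w, hwU, rfl⟩ hwV
  refine Opens.mem_iSup.2 ⟨⟨⟨Z.basicOpen a, hV.basicOpen a⟩, ?_⟩, hfa⟩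
  have h2 : f ⁻¹ᵁ Z.basicOpen a ≤ U := fun x hx => by
    obtain ⟨x', hx', e⟩ := haU hx
    exact hf.injective e ▸ hx'
  change IsAffineOpen (f ⁻¹ᵁ Z.basicOpen a)
  have e : f ⁻¹ᵁ Z.basicOpen a = W.basicOpen (W.presheaf.map (homOfLE hUV).op (f.app V a)) := by
    rw [Scheme.basicOpen_res, Scheme.preimage_basicOpen]
    exact (inf_eq_right.2 (by rw [← Scheme.preimage_basicOpen]; exact h2)).symm
  exact e ▸ hU.basicOpen _

end UnivHomeo

end Groth.Agent.PerfSch.Perfect
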