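import Groth.Agent.PerfSch.DescSec
import Groth.Agent.LineCoc.Basic
import Groth.Agent.AmpleLib.GenIso

/-!
# Invertible modules on a perfection descend up to `p`-powers
-/

set_option autoImplicit false
set_option linter.style.haveILetI false
set_option backward.isDefEq.respectTransparency false
set_option backward.isDefEq.respectTransparency.types false

universe u

open CategoryTheory CategoryTheory.Limits AlgebraicGeometry Opposite TopologicalSpace

noncomputable section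

namespace Groth.Agent.PerfSch.DescMod

open Groth.Agent.PerfSch.Ring Groth.Agent.PerfSch.Perfect Groth.Agent.PerfSch.Perfection
open Groth.Agent.QCoh Groth.Agent.Props.GenLocus Groth.Agent.Props.GenTensor Groth.Agent.Props.GenProd
  Groth.Agent.Props.GenExt Groth.Agent.Props.GenPull

variable {X XP : Scheme.{u}} {p : ℕ} [hp : Fact p.Prime] [FrobSch.IsCharP XP p] [FrobSch.IsCharP X p]
  {π : XP ⟶ X}

theorem exists_model (hπ : FrobSch.IsPerfection π p) [CompactSpace X] [QuasiSeparatedSpace X]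
    (M : XP.Modules) (hM : PicF.IsInvertible M) :
    ∃ (n : ℕ) (L : X.Modules), PicF.IsInvertible L ∧
      PicF.cl (CohB1.tensorPow M (p ^ n)) = PicF.pullCl π (PicF.cl L) := by
  classical
  -- trivialisations over affine opens of `X`
  have key : ∀ x : X, ∃ (W : X.Opens) (e : Γ(M, π ⁻¹ᵁ W)), x ∈ W ∧ IsAffineOpen W ∧ IsGen M (π ⁻¹ᵁ W) e := by
    intro x
    obtain ⟨x', rfl⟩ := (Perfection.surjective hπ).surj x
    obtain ⟨U, e, hxU, he⟩ := exists_isGen hM x'
    have hh := Perfection.isHomeomorph hπ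
    obtain ⟨W, hW, hxW, hWU⟩ := exists_isAffineOpen_mem_and_subset
      (U := (⟨π '' U, hh.isOpenMap _ U.2⟩ : X.Opens)) (x := π x') ⟨x', hxU, rfl⟩
    have hle : π ⁻¹ᵁ W ≤ U := fun y hy => by
      obtain ⟨y', hy', hyy⟩ := hWU hy
      rwa [← hh.injective hyy]
    exact ⟨W, res M hle e, hxW, hW, he.restrict hle⟩
  choose W₀ e₀ hxW₀ hW₀ he₀ using key
  obtain ⟨F, hF⟩ := isCompact_univ.elim_finite_subcover (fun x : X => (W₀ x : Set X))
    (fun x => (W₀ x).2) fun x _ => Set.mem_iUnion.mpr ⟨x, hxW₀ x⟩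
  let W : F → X.Opens := fun i => W₀ i
  let e : ∀ i : F, Γ(M, π ⁻¹ᵁ W i) := fun i => e₀ i
  have hW : ∀ i, IsAffineOpen (W i) := fun i => hW₀ _
  have he : ∀ i, IsGen M (π ⁻¹ᵁ W i) (e i) := fun i => he₀ _
  have hcov : ⊤ ≤ iSup W := fun x _ => by
    obtain ⟨y, hy, hxy⟩ := Set.mem_iUnion₂.mp (hF (Set.mem_univ x))
    exact Opens.mem_iSup.mpr ⟨⟨y, hy⟩, hxy⟩
  -- transition functions
  have hv : ∀ q : F × F, ∃ v : Γ(XP, π ⁻¹ᵁ (W q.1 ⊓ W q.2)),
      res M (π.preimage_mono inf_le_right) (e q.2) = v • res M (π.preimage_mono inf_le_left) (e q.1) := fun q =>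
    let ⟨v, hv, _⟩ := (he q.1).exists_eq (π.preimage_mono inf_le_left) (res M (π.preimage_mono inf_le_right) (e q.2))
    ⟨v, hv⟩
  choose v hv using hv
  have hvu : ∀ (i j : F) (V : XP.Opens) (h : V ≤ π ⁻¹ᵁ (W i ⊓ W j)),
      res M (h.trans (π.preimage_mono inf_le_right)) (e j) =
        rres h (v (i, j)) • res M (h.trans (π.preimage_mono inf_le_left)) (e i) := by
    intro i j V h
    have h1 := congrArg (res M h) (hv (i, j))
    rw [res_res, res_smul, res_res] at h1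
    exact h1
  have hcpt : ∀ q : F × F, IsCompact ((W q.1 ⊓ W q.2 : X.Opens) : Set X) := fun q =>
    QuasiSeparatedSpace.inter_isCompact _ _ (W q.1).2 (hW _).isCompact (W q.2).2 (hW _).isCompact
  choose n₀ b₀ hb₀ using fun q : F × F => GlobalSections.exists_image_pow hπ (hcpt q) (v q)
  let n := Finset.univ.sup n₀
  obtain ⟨b, hb⟩ : ∃ b : ∀ q : F × F, Γ(X, W q.1 ⊓ W q.2), ∀ q, π.app _ (b q) = v q ^ p ^ n :=
    ⟨fun q => b₀ q ^ p ^ (n - n₀ q), fun q => by
      rw [map_pow, hb₀, pow_q_pow_q, Nat.add_sub_of_le (Finset.le_sup (f := n₀) (Finset.mem_univ q))]⟩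
  -- the cocycle identities hold after a further power
  have hd : ∀ i j k : F, ∃ m : ℕ,
      rres (inf_le_left : (W i ⊓ W j) ⊓ W k ≤ W i ⊓ W j) (b (i, j)) ^ p ^ m *
        rres (le_inf (inf_le_left.trans inf_le_right) inf_le_right : (W i ⊓ W j) ⊓ W k ≤ W j ⊓ W k) (b (j, k)) ^ p ^ m =
      rres (le_inf (inf_le_left.trans inf_le_left) inf_le_right : (W i ⊓ W j) ⊓ W k ≤ W i ⊓ W k) (b (i, k)) ^ p ^ m := by
    intro i j k
    have hc : IsCompact (((W i ⊓ W j) ⊓ W k : X.Opens) : Set X) :=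
      QuasiSeparatedSpace.inter_isCompact _ _ (W i ⊓ W j).2 (hcpt (i, j)) (W k).2 (hW _).isCompact
    let T := π ⁻¹ᵁ ((W i ⊓ W j) ⊓ W k)
    have h₁ : (W i ⊓ W j) ⊓ W k ≤ W i ⊓ W j := inf_le_left
    have h₂ : (W i ⊓ W j) ⊓ W k ≤ W j ⊓ W k := le_inf (inf_le_left.trans inf_le_right) inf_le_right
    have h₃ : (W i ⊓ W j) ⊓ W k ≤ W i ⊓ W k := le_inf (inf_le_left.trans inf_le_left) inf_le_right
    have hvc : rres (π.preimage_mono h₁) (v (i, j)) * rres (π.preimage_mono h₂) (v (j, k)) =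
        rres (π.preimage_mono h₃) (v (i, k)) := by
      refine (he i).injective (π.preimage_mono (h₁.trans inf_le_left)) ?_
      rw [← hvu i k _ (π.preimage_mono h₃), hvu j k _ (π.preimage_mono h₂), hvu i j _ (π.preimage_mono h₁),
        smul_smul, mul_comm]
    obtain ⟨m, hm⟩ := GlobalSections.exists_pow_eq_zero hπ hc
      (rres h₁ (b (i, j)) * rres h₂ (b (j, k)) - rres h₃ (b (i, k)))
      (by rw [map_sub, map_mul, app_rres, app_rres, app_rres, hb (i, j), hb (j, k), hb (i, k), map_pow, map_pow,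
        map_pow, ← mul_pow, hvc, sub_self])
    refine ⟨m, ?_⟩
    rw [← mul_pow, ← sub_eq_zero, ← sub_pow_q (FrobSch.natCast_eq_zero_app X p _)]
    exact hm
  have hs : ∀ i : F, ∃ m : ℕ, b (i, i) ^ p ^ m = 1 := by
    intro i
    have hv1 : v (i, i) = 1 := by
      refine (he i).injective (π.preimage_mono inf_le_left) ?_
      rw [one_smul]
      exact (hv (i, i)).symm
    obtain ⟨m, hm⟩ := GlobalSections.exists_pow_eq_zero hπ (hcpt (i, i)) (b (i, i) - 1)
      (by rw [map_sub, hb, hv1, one_pow, map_one, sub_self])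
    refine ⟨m, ?_⟩
    rw [sub_pow_q (FrobSch.natCast_eq_zero_app X p _), one_pow, sub_eq_zero] at hm
    exact hm
  choose m₁ hm₁ using hd
  choose m₂ hm₂ using hs
  let m := max (Finset.univ.sup fun t : F × F × F => m₁ t.1 t.2.1 t.2.2) (Finset.univ.sup m₂)
  obtain ⟨a, ha, haself, hacoc⟩ : ∃ a : ∀ i j : F, Γ(X, W i ⊓ W j), (∀ i j, π.app _ (a i j) = v (i, j) ^ p ^ (n + m)) ∧
      (∀ i, a i i = 1) ∧ ∀ i j k (V : X.Opens) (h₁ : V ≤ W i ⊓ W j) (h₂ : V ≤ W j ⊓ W k) (h₃ : V ≤ W i ⊓ W k),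
        rres h₁ (a i j) * rres h₂ (a j k) = rres h₃ (a i k) := by
    refine ⟨fun i j => b (i, j) ^ p ^ m, fun i j => ?_, fun i => ?_, fun i j k V h₁ h₂ h₃ => ?_⟩
    · rw [map_pow, hb (i, j), pow_q_pow_q]
    · have hle : m₂ i ≤ m := le_trans (Finset.le_sup (f := m₂) (Finset.mem_univ i)) (le_max_right _ _)
      show b (i, i) ^ p ^ m = 1
      rw [show m = m₂ i + (m - m₂ i) from (Nat.add_sub_of_le hle).symm, ← pow_q_pow_q, hm₂, one_pow]
    · have hle : m₁ i j k ≤ m := le_trans (Finset.le_sup (f := fun t : F × F × F => m₁ t.1 t.2.1 t.2.2)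
        (Finset.mem_univ (i, j, k))) (le_max_left _ _)
      have hV : V ≤ (W i ⊓ W j) ⊓ W k := le_inf h₁ (h₂.trans inf_le_right)
      have h := congrArg (rres hV) (congrArg (· ^ p ^ (m - m₁ i j k)) (hm₁ i j k))
      simp only [mul_pow, pow_q_pow_q, Nat.add_sub_of_le hle, map_mul, map_pow, rres_rres] at h ⊢
      exact h
  let C : LineCoc.Cocycle X := ⟨F, W, a, hcov, haself, hacoc⟩
  refine ⟨n + m, LineCoc.mod C, LineCoc.isInvertible C, ?_⟩
  obtain ⟨φ, -⟩ := AmpleLib.exists_iso_of_gen (M := CohB1.tensorPow M (p ^ (n + m)))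
    (N := (Scheme.Modules.pullback π).obj (LineCoc.mod C)) (fun i : F => π ⁻¹ᵁ W i)
    (fun x _ => by
      obtain ⟨i, hi⟩ := Opens.mem_iSup.1 (hcov (trivial : π x ∈ (⊤ : X.Opens)))
      exact Opens.mem_iSup.2 ⟨i, hi⟩)
    (fun i => pw M (e i) _) (fun i => isGen_pw (he i) _)
    (fun i => pb π (LineCoc.gen C i)) (fun i => isGen_pb π (LineCoc.isGen_gen C i))
    (fun i j V hi hj u hu => by
      have hV : V ≤ π ⁻¹ᵁ (W i ⊓ W j) := le_inf hi hj
      have h1 : u = rres hV (v (i, j)) ^ p ^ (n + m) := by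
        refine (isGen_pw (he i) (p ^ (n + m))).injective hi ?_
        rw [← hu, res_pw, res_pw, hvu i j V hV, pw_smul]
      have h2 := DescSec.pb_transition (π := π) (LineCoc.res_gen_eq C i j)
      have h3 := congrArg (res _ hV) h2
      rw [res_res, res_smul, res_res] at h3
      rw [h1, ← map_pow, ← ha i j]
      exact h3)
  exact PicCl.cl_eq_of_iso φ

end Groth.Agent.PerfSch.DescMod
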