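import Groth.Agent.PerfSch.Perfection
import Mathlib.AlgebraicGeometry.Morphisms.ClosedImmersion
import Mathlib.AlgebraicGeometry.Morphisms.Separated
import Mathlib.AlgebraicGeometry.Morphisms.Flat
import Mathlib.RingTheory.Flat.EquationalCriterion

/-!
# Perfections of open immersions, closed immersions and flat morphisms
-/

universe u

open CategoryTheory CategoryTheory.Limits AlgebraicGeometry Opposite TopologicalSpace

set_option backward.isDefEq.respectTransparency.types false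
set_option backward.isDefEq.respectTransparency false

namespace Groth.Agent.PerfSch.Functorial

open Groth.Agent.PerfSch.Ring Groth.Agent.PerfSch.Perfect Groth.Agent.PerfSch.Perfection

variable {p : ℕ} [hp : Fact p.Prime] {XP X YP Y : Scheme.{u}}
  [FrobSch.IsCharP XP p] [FrobSch.IsCharP YP p] {πX : XP ⟶ X} {πY : YP ⟶ Y}
  {f : X ⟶ Y} {fP : XP ⟶ YP}

theorem comp_iso (hX : FrobSch.IsPerfection πX p) (e : X ⟶ Y) [IsIso e] :
    FrobSch.IsPerfection (πX ≫ e) p := by
  refine ⟨hX.1, fun Z _ hZ => ?_⟩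
  have : (fun g : Z ⟶ XP => g ≫ πX ≫ e) =
      (fun g : Z ⟶ X => g ≫ e) ∘ (fun g : Z ⟶ XP => g ≫ πX) := by
    funext g; simp
  rw [this]
  exact Function.Bijective.comp ⟨fun a b h => (cancel_mono e).1 h,
    fun c => ⟨c ≫ inv e, by simp⟩⟩ (hX.2 Z hZ)

theorem isOpenImmersion (hX : FrobSch.IsPerfection πX p) (hY : FrobSch.IsPerfection πY p)
    (w : fP ≫ πY = πX ≫ f) [IsOpenImmersion f] : IsOpenImmersion fP := by
  let U := f.opensRange
  let e : X ≅ U := IsOpenImmersion.isoOfRangeEq f U.ι (by simp [U])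
  have := FrobSch.IsCharP.of_hom (πY ⁻¹ᵁ U).ι p
  obtain ⟨i, hi⟩ := exists_iso (comp_iso hX e.hom) (restrict hY U)
  have : fP = i.hom ≫ (πY ⁻¹ᵁ U).ι := by
    refine hom_ext hY hX.1 ?_
    rw [w, Category.assoc, ← morphismRestrict_ι, reassoc_of% hi]
    simp [e]
  rw [this]
  infer_instance

theorem appLE_isPRad [FrobSch.IsCharP X p] (hX : FrobSch.IsPerfection πX p) {V : X.Opens}
    (hV : IsAffineOpen V) {W : XP.Opens} (e : W = πX ⁻¹ᵁ V) :
    IsPRad p (πX.appLE V W e.le).hom := by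
  subst e
  rw [← Scheme.Hom.app_eq_appLE]
  exact (affineOpen_case hX hV).2

theorem isAffineHom_of_w [FrobSch.IsCharP X p] [FrobSch.IsCharP Y p]
    (hX : FrobSch.IsPerfection πX p) (hY : FrobSch.IsPerfection πY p)
    (w : fP ≫ πY = πX ≫ f) [IsAffineHom f] : IsAffineHom fP := by
  have := Perfection.isAffineHom hX
  have := Perfection.isAffineHom hY
  have : IsAffineHom (fP ≫ πY) := by rw [w]; infer_instance
  exact IsAffineHom.of_comp fP πY

theorem surjective_comp_iso {A B C : CommRingCat.{u}} (a : A ⟶ B) (b : B ⟶ C) [IsIso b]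
    (h : Function.Surjective a) : Function.Surjective (a ≫ b) := by
  intro z
  obtain ⟨y, rfl⟩ := (ConcreteCategory.bijective_of_isIso b).2 z
  obtain ⟨x, rfl⟩ := h y
  exact ⟨x, rfl⟩

theorem isClosedImmersion [FrobSch.IsCharP X p] [FrobSch.IsCharP Y p]
    (hX : FrobSch.IsPerfection πX p) (hY : FrobSch.IsPerfection πY p)
    (w : fP ≫ πY = πX ≫ f) [IsClosedImmersion f] : IsClosedImmersion fP := by
  have := isAffineHom_of_w hX hY w
  have := Perfection.isAffineHom hY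
  refine IsZariskiLocalAtTarget.of_iSup_eq_top (P := @IsClosedImmersion)
    (fun U : Y.affineOpens => πY ⁻¹ᵁ U.1) ?_ fun U => ?_
  · rw [← Scheme.Hom.preimage_iSup, iSup_affineOpens_eq_top]; rfl
  have hU' : IsAffineOpen (πY ⁻¹ᵁ U.1) := U.2.preimage πY
  have : IsAffine (πY ⁻¹ᵁ U.1 : YP.Opens) := hU'
  have : IsAffine (fP ⁻¹ᵁ πY ⁻¹ᵁ U.1 : XP.Opens) := hU'.preimage fP
  refine IsClosedImmersion.of_surjective_of_isAffine _ ?_
  rw [morphismRestrict_appTop]
  suffices ∀ W : YP.Opens, W = πY ⁻¹ᵁ U.1 → Function.Surjective (fP.app W) by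
    exact surjective_comp_iso _ _ (this _ (Scheme.Opens.ι_image_top _))
  rintro W rfl y
  have e : fP ⁻¹ᵁ πY ⁻¹ᵁ U.1 = πX ⁻¹ᵁ f ⁻¹ᵁ U.1 := by
    rw [← Scheme.Hom.comp_preimage, ← Scheme.Hom.comp_preimage, w]
  obtain ⟨n, x, hx⟩ := (appLE_isPRad hX (U.2.preimage f) e).1 y
  obtain ⟨r, rfl⟩ := f.app_surjective U.1 U.2 x
  obtain ⟨s, hs⟩ := (perfRing_of_isPerfect hY.1 (πY ⁻¹ᵁ U.1)).exists_root (πY.app U.1 r) n
  refine ⟨s, (perfRing_of_isPerfect hX.1 _).eq_of_pow_eq n ?_⟩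
  rw [← map_pow, hs, ← hx, Scheme.Hom.app_eq_appLE, Scheme.Hom.app_eq_appLE,
    Scheme.Hom.app_eq_appLE, ← CommRingCat.comp_apply, ← CommRingCat.comp_apply,
    Scheme.Hom.appLE_comp_appLE, Scheme.Hom.appLE_comp_appLE]
  simp only [w]

omit hp in
theorem flat_of_isPRad {R S P Q : Type*} [CommRing R] [CommRing S] [CommRing P] [CommRing Q]
    [Fact p.Prime] (φ : R →+* S) (hφ : φ.Flat) (hS : (p : S) = 0)
    {ιR : R →+* P} {ιS : S →+* Q} (hιR : IsPRad p ιR) (hιS : IsPRad p ιS)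
    (hP : PerfRing p P) (hQ : PerfRing p Q) (ψ : P →+* Q) (hw : ψ.comp ιR = ιS.comp φ) :
    ψ.Flat := by
  algebraize [φ, ψ]
  change Module.Flat P Q
  refine Module.Flat.iff_forall_isTrivialRelation.2 fun {l a x} h => ?_
  choose n r hr using fun i => hιR.1 (a i)
  choose m s hs using fun i => hιS.1 (x i)
  let N := Finset.univ.sup n + Finset.univ.sup m
  have hn : ∀ i, n i ≤ N := fun i => (Finset.le_sup (Finset.mem_univ i)).trans (Nat.le_add_right _ _)
  have hm : ∀ i, m i ≤ N := fun i => (Finset.le_sup (Finset.mem_univ i)).trans (Nat.le_add_left _ _)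
  let r' := fun i => r i ^ p ^ (N - n i)
  let s' := fun i => s i ^ p ^ (N - m i)
  have hr' : ∀ i, ιR (r' i) = a i ^ p ^ N := fun i => by
    simp [r', hr, pow_q_pow_q, Nat.add_sub_cancel' (hn i)]
  have hs' : ∀ i, ιS (s' i) = x i ^ p ^ N := fun i => by
    simp [s', hs, pow_q_pow_q, Nat.add_sub_cancel' (hm i)]
  have hψ : ∀ t, ιS (φ t) = ψ (ιR t) := fun t => (DFunLike.congr_fun hw t).symm
  obtain ⟨k, hk⟩ := hιS.2 (∑ i, φ (r' i) * s' i) (by
    simp only [map_sum, map_mul, hψ, hr', hs', map_pow, ← mul_pow, ← sum_pow_q hQ.1]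
    simp only [Algebra.smul_def, RingHom.algebraMap_toAlgebra] at h
    rw [h, zero_pow (q_pos N).ne'])
  rw [sum_pow_q hS] at hk
  simp only [mul_pow] at hk
  have hrel : ∑ i, (r' i ^ p ^ k) • (s' i ^ p ^ k) = 0 := by
    simpa [Algebra.smul_def, RingHom.algebraMap_toAlgebra] using hk
  have : Module.Flat R S := hφ
  obtain ⟨κ, c, y, hy, hc⟩ := Module.Flat.isTrivialRelation_of_sum_smul_eq_zero hrel
  choose c' hc' using fun i j => hP.exists_root (ιR (c i j)) (N + k)
  choose y' hy' using fun j => hQ.exists_root (ιS (y j)) (N + k)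
  refine ⟨κ, c', y', fun i => hQ.eq_of_pow_eq (N + k) ?_, fun j => hP.eq_of_pow_eq (N + k) ?_⟩
  · have := congrArg ιS (hy i)
    simp only [map_pow, hs', pow_q_pow_q, map_sum, Algebra.smul_def,
      RingHom.algebraMap_toAlgebra, map_mul] at this
    simp only [sum_pow_q hQ.1, Algebra.smul_def, RingHom.algebraMap_toAlgebra, mul_pow,
      ← map_pow, hc', hy', this, hψ]
  · have := congrArg ιR (hc j)
    simp only [map_sum, map_mul, map_pow, hr', pow_q_pow_q, map_zero] at this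
    simp only [sum_pow_q hP.1, mul_pow, hc', this, zero_pow (q_pos (N + k)).ne']

theorem flat [FrobSch.IsCharP X p] [FrobSch.IsCharP Y p]
    (hX : FrobSch.IsPerfection πX p) (hY : FrobSch.IsPerfection πY p)
    (w : fP ≫ πY = πX ≫ f) [hf : Flat f] : Flat fP := by
  have := Perfection.isAffineHom hX
  have := Perfection.isAffineHom hY
  refine (HasRingHomProperty.iff_exists_appLE (P := @Flat)
    (RingHom.Flat.stableUnderComposition.stableUnderCompositionWithLocalizationAway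
      RingHom.Flat.holdsForLocalizationAway).left).2 fun z => ?_
  obtain ⟨_, ⟨U, hU, rfl⟩, hzU, -⟩ := Y.isBasis_affineOpens.exists_subset_of_mem_open
    (Set.mem_univ (f (πX z))) isOpen_univ
  obtain ⟨_, ⟨V, hV, rfl⟩, hzV, hVU⟩ := X.isBasis_affineOpens.exists_subset_of_mem_open
    (show πX z ∈ (f ⁻¹ᵁ U : Set X) from hzU) (f ⁻¹ᵁ U).2
  have e : πX ⁻¹ᵁ V ≤ fP ⁻¹ᵁ πY ⁻¹ᵁ U := by
    rw [← Scheme.Hom.comp_preimage, w, Scheme.Hom.comp_preimage]
    exact πX.preimage_mono hVU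
  refine ⟨⟨_, hU.preimage πY⟩, ⟨_, hV.preimage πX⟩, hzV, e, ?_⟩
  refine flat_of_isPRad (f.appLE U V hVU).hom (f.flat_appLE hU hV hVU)
    (FrobSch.natCast_eq_zero_app X p V) (appLE_isPRad hY hU rfl)
    (appLE_isPRad hX hV rfl) (perfRing_of_isPerfect hY.1 _) (perfRing_of_isPerfect hX.1 _) _ ?_
  rw [← CommRingCat.hom_comp, ← CommRingCat.hom_comp, Scheme.Hom.appLE_comp_appLE,
    Scheme.Hom.appLE_comp_appLE]
  simp only [w]

end Groth.Agent.PerfSch.Functorial
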