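import Groth.Agent.PerfSch.Perfection
import Mathlib.AlgebraicGeometry.Morphisms.QuasiSeparated
import Mathlib.RingTheory.Spectrum.Prime.Homeomorph

/-!
# Sections of a perfection over a quasi-compact quasi-separated open
-/

universe u

open CategoryTheory CategoryTheory.Limits AlgebraicGeometry Opposite TopologicalSpace

set_option backward.isDefEq.respectTransparency.types false
set_option backward.isDefEq.respectTransparency false

namespace Groth.Agent.PerfSch.GlobalSections

open Groth.Agent.PerfSch.Ring Groth.Agent.PerfSch.Perfect Groth.Agent.PerfSch.Perfection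

variable {p : ℕ} [hp : Fact p.Prime] {XP X : Scheme.{u}} [FrobSch.IsCharP XP p]
  [FrobSch.IsCharP X p] {π : XP ⟶ X}

theorem exists_pow_eq_zero (hπ : FrobSch.IsPerfection π p) {U : X.Opens}
    (hU : IsCompact (U : Set X)) (x : Γ(X, U)) (hx : π.app U x = 0) :
    ∃ n, x ^ p ^ n = 0 := by
  have h : X.basicOpen x = ⊥ := by
    refine le_bot_iff.1 fun z hz => ?_
    obtain ⟨w, rfl⟩ := (Perfection.surjective hπ).surj z
    have : w ∈ π ⁻¹ᵁ X.basicOpen x := hz
    rw [Scheme.preimage_basicOpen, hx, Scheme.basicOpen_zero] at this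
    exact this
  obtain ⟨k, hk⟩ := (Scheme.isNilpotent_iff_basicOpen_eq_bot_of_isCompact hU x).2 h
  exact ⟨k, pow_eq_zero_of_le (Nat.lt_pow_self hp.out.one_lt).le hk⟩

omit [FrobSch.IsCharP XP p] [FrobSch.IsCharP X p] in
theorem app_res (π : XP ⟶ X) {S W : X.Opens} (h : W ≤ S) (s : Γ(X, S)) :
    π.app W (X.presheaf.map (homOfLE h).op s) =
      XP.presheaf.map (homOfLE (π.preimage_mono h)).op (π.app S s) :=
  congr($(π.naturality (homOfLE h).op) s)

theorem exists_image_pow (hπ : FrobSch.IsPerfection π p) [QuasiSeparatedSpace X] {U : X.Opens}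
    (hU : IsCompact (U : Set X)) (y : Γ(XP, π ⁻¹ᵁ U)) :
    ∃ (n : ℕ) (x : Γ(X, U)), π.app U x = y ^ p ^ n := by
  revert y
  refine compact_open_induction_on U hU ?_ ?_
  · intro y
    have : π ⁻¹ᵁ (⊥ : X.Opens) = ⊥ := rfl
    have : Subsingleton Γ(XP, π ⁻¹ᵁ (⊥ : X.Opens)) := by rw [this]; infer_instance
    exact ⟨0, 0, Subsingleton.elim _ _⟩
  · intro S hS U ih y
    obtain ⟨a, x₁, h₁⟩ := ih (XP.presheaf.map
      (homOfLE (π.preimage_mono (le_sup_left : S ≤ S ⊔ U.1))).op y)
    obtain ⟨b, x₂, h₂⟩ := (affineOpen_case hπ U.2).2.1 (XP.presheaf.map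
      (homOfLE (π.preimage_mono (le_sup_right : U.1 ≤ S ⊔ U.1))).op y)
    let d := X.presheaf.map (homOfLE (inf_le_left : S ⊓ U.1 ≤ S)).op (x₁ ^ p ^ b) -
      X.presheaf.map (homOfLE (inf_le_right : S ⊓ U.1 ≤ U.1)).op (x₂ ^ p ^ a)
    have hd : π.app (S ⊓ U.1) d = 0 := by
      simp only [d, map_sub, app_res]
      simp only [map_pow, h₁, h₂, ← ConcreteCategory.comp_apply, ← Functor.map_comp, pow_q_pow_q,
        Nat.add_comm a b]
      exact sub_self _
    have hc : IsCompact ((S ⊓ U.1 : X.Opens) : Set X) :=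
      QuasiSeparatedSpace.inter_isCompact _ _ S.2 hS U.1.2 U.2.isCompact
    obtain ⟨k, hk⟩ := exists_pow_eq_zero hπ hc d hd
    simp only [d, sub_pow_q (FrobSch.natCast_eq_zero_app X p _), sub_eq_zero, ← map_pow,
      pow_q_pow_q] at hk
    have hcompat : TopCat.Presheaf.IsCompatible X.presheaf
        (fun t : Bool => if t then S else U.1)
        (fun t => match t with
          | true => x₁ ^ p ^ (b + k)
          | false => x₂ ^ p ^ (a + k)) := by
      rintro (_ | _) (_ | _)
      · rfl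
      · have := congrArg (X.presheaf.map (homOfLE (le_inf inf_le_right inf_le_left :
          U.1 ⊓ S ≤ S ⊓ U.1)).op) hk
        simp only [← ConcreteCategory.comp_apply, ← Functor.map_comp] at this
        exact this.symm
      · exact hk
      · rfl
    obtain ⟨x, hx, -⟩ := X.sheaf.existsUnique_gluing' (fun t : Bool => if t then S else U.1)
      (S ⊔ U.1) (fun t => match t with
        | true => homOfLE le_sup_left
        | false => homOfLE le_sup_right)
      (sup_le (le_iSup (fun t : Bool => if t then S else U.1) true)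
        (le_iSup (fun t : Bool => if t then S else U.1) false)) _ hcompat
    refine ⟨a + (b + k), x, ?_⟩
    refine XP.sheaf.eq_of_locally_eq₂ (homOfLE (π.preimage_mono (le_sup_left : S ≤ S ⊔ U.1)))
      (homOfLE (π.preimage_mono (le_sup_right : U.1 ≤ S ⊔ U.1))) (fun z hz => hz) _ _ ?_ ?_
    · refine ((app_res π le_sup_left x).symm.trans (congrArg (π.app S) (hx true))).trans ?_
      change π.app S (x₁ ^ p ^ (b + k)) = _
      rw [map_pow, h₁, pow_q_pow_q]
      exact (map_pow (XP.presheaf.map _).hom y _).symm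
    · refine ((app_res π le_sup_right x).symm.trans (congrArg (π.app U.1) (hx false))).trans ?_
      change π.app U.1 (x₂ ^ p ^ (a + k)) = _
      rw [map_pow, h₂, pow_q_pow_q, Nat.add_left_comm b a k]
      exact (map_pow (XP.presheaf.map _).hom y _).symm

theorem isPRad_appTop (hπ : FrobSch.IsPerfection π p) [QuasiSeparatedSpace X] [CompactSpace X] :
    IsPRad p π.appTop.hom :=
  ⟨fun y => exists_image_pow hπ (U := ⊤) isCompact_univ y,
    fun x hx => exists_pow_eq_zero hπ (U := ⊤) isCompact_univ x hx⟩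

end Groth.Agent.PerfSch.GlobalSections

namespace Groth.Agent.PerfSch.GlobalSections

open Groth.Agent.PerfSch.Ring Groth.Agent.PerfSch.Perfect Groth.Agent.PerfSch.Perfection

variable {p : ℕ} [hp : Fact p.Prime] {XP X : Scheme.{u}} [FrobSch.IsCharP XP p]
  [FrobSch.IsCharP X p] {π : XP ⟶ X}

theorem isAffine_of_isAffine_perfection (hπ : FrobSch.IsPerfection π p) [QuasiSeparatedSpace X]
    [CompactSpace X] [IsAffine XP] : IsAffine X := by
  have hrad := isPRad_appTop hπ
  have hbij := PrimeSpectrum.isHomeomorph_comap π.appTop.hom (fun y => by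
      obtain ⟨n, x, hx⟩ := hrad.1 y
      exact ⟨p ^ n, q_pos n, x, hx⟩)
    (fun x hx => by
      obtain ⟨n, hn⟩ := hrad.2 x hx
      exact ⟨p ^ n, hn⟩)
  let s : Set Γ(X, ⊤) := {f | IsAffineOpen (X.basicOpen f)}
  refine isAffine_of_isAffineOpen_basicOpen s ?_ fun i hi => hi
  have hcov : ∀ w : XP, ∃ f ∈ s, w ∈ XP.basicOpen (π.appTop f) := by
    intro w
    obtain ⟨_, ⟨V, hV, rfl⟩, hwV, -⟩ := X.isBasis_affineOpens.exists_subset_of_mem_open
      (Set.mem_univ (π w)) isOpen_univ
    obtain ⟨g, hgV, hwg⟩ := (isAffineOpen_top XP).exists_basicOpen_le (V := π ⁻¹ᵁ V)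
      ⟨w, hwV⟩ trivial
    obtain ⟨n, f, hf⟩ := hrad.1 g
    have e : XP.basicOpen (π.appTop f) = XP.basicOpen g := by
      rw [show π.appTop f = g ^ p ^ n from hf, Scheme.basicOpen_pow _ _ (q_pos n)]
    refine ⟨f, ?_, e ▸ hwg⟩
    have hle : X.basicOpen f ≤ V := fun z hz => by
      obtain ⟨w', rfl⟩ := (Perfection.surjective hπ).surj z
      have : w' ∈ π ⁻¹ᵁ X.basicOpen f := hz
      rw [Scheme.preimage_basicOpen] at this
      exact hgV (e ▸ this)
    change IsAffineOpen (X.basicOpen f)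
    have e2 : X.basicOpen f = X.basicOpen (X.presheaf.map (homOfLE (le_top : V ≤ ⊤)).op f) := by
      rw [Scheme.basicOpen_res]
      exact (inf_eq_right.2 hle).symm
    rw [e2]
    exact hV.basicOpen _
  by_contra hne
  obtain ⟨M, hM, hsM⟩ := Ideal.exists_le_maximal _ hne
  obtain ⟨P, hP⟩ := hbij.surjective ⟨M, hM.isPrime⟩
  have hP' : P.asIdeal.comap π.appTop.hom = M := congrArg PrimeSpectrum.asIdeal hP
  obtain ⟨f, hf, hwf⟩ := hcov ((isAffineOpen_top XP).fromSpec P)
  have : f ∈ M := hsM (Ideal.subset_span hf)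
  rw [← hP', Ideal.mem_comap] at this
  have h2 : P ∈ (isAffineOpen_top XP).fromSpec ⁻¹ᵁ XP.basicOpen (π.appTop f) := hwf
  rw [(isAffineOpen_top XP).fromSpec_preimage_basicOpen] at h2
  exact h2 this

end Groth.Agent.PerfSch.GlobalSections
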