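import Groth.Agent.PerfSch.PerfFG
import Groth.Agent.LimLib.Approx
import Groth.Agent.LimLib.OpensLimit
import Mathlib.AlgebraicGeometry.IdealSheaf.Subscheme
import Mathlib.RingTheory.Int.Basic
import Mathlib.Data.ZMod.QuotientRing

/-!
# Finite type models of compact perfect schemes
-/

set_option autoImplicit false
set_option linter.style.haveILetI false
set_option backward.isDefEq.respectTransparency false
set_option backward.isDefEq.respectTransparency.types false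

universe u

open CategoryTheory CategoryTheory.Limits AlgebraicGeometry Opposite TopologicalSpace

noncomputable section

namespace Groth.Agent.PerfSch.Model

open Groth.Agent.PerfSch.Ring Groth.Agent.PerfSch.Perfect Groth.Agent.PerfSch.Perfection

variable {p : ℕ} [hp : Fact p.Prime]

/-- Perfections can be recognised on an affine cover of the target. -/
theorem isPerfection_of_cover {XP X : Scheme.{u}} [FrobSch.IsCharP XP p] [FrobSch.IsCharP X p]
    (π : XP ⟶ X) [IsAffineHom π] (h : FrobSch.IsPerfect XP p) {ι : Type u} (V : ι → X.Opens)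
    (hV : ⨆ i, V i = ⊤) (hA : ∀ i, IsAffineOpen (V i)) (hR : ∀ i, IsPRad p (π.app (V i)).hom) :
    FrobSch.IsPerfection π p := by
  have hloc : ∀ i, ∃ _ : FrobSch.IsCharP (π ⁻¹ᵁ V i : XP.Opens) p, FrobSch.IsPerfection (π ∣_ V i) p := by
    intro i
    haveI hc1 : FrobSch.IsCharP (π ⁻¹ᵁ V i : XP.Opens) p := FrobSch.IsCharP.of_hom (π ⁻¹ᵁ V i).ι p
    haveI : FrobSch.IsCharP (V i : X.Opens) p := FrobSch.IsCharP.of_hom (V i).ι p
    haveI : IsAffine (V i : Scheme.{u}) := hA i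
    haveI : IsAffine (π ⁻¹ᵁ V i : XP.Opens).toScheme := (hA i).preimage π
    have hR' : IsPRad p (π ∣_ V i).appTop.hom := by
      rw [morphismRestrict_appTop]
      suffices ∀ W : X.Opens, W = V i → IsPRad p (π.app W).hom by
        exact (this _ (V i).ι_image_top).comp_equiv_right (asIso (XP.presheaf.map (eqToHom _).op)).commRingCatIsoToRingEquiv
      rintro W rfl
      exact hR i
    have hP : PerfRing p Γ((π ⁻¹ᵁ V i : XP.Opens).toScheme, ⊤) := perfRing_of_isPerfect (isPerfect_opens h _) ⊤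
    haveI := PerfFG.isCharP_Spec hP
    obtain ⟨hperf, huniv⟩ := isPerfection_Spec (p := p) (X := (V i : Scheme.{u})) FrobSch.IsCharP.natCast_eq_zero
      (π ∣_ V i).appTop hP hR'
    refine ⟨hc1, isPerfect_opens h _, fun Y _ hY => ?_⟩
    have e : (π ⁻¹ᵁ V i : XP.Opens).toScheme.isoSpec.hom ≫ Spec.map (π ∣_ V i).appTop ≫
        (V i : Scheme.{u}).isoSpec.inv = π ∣_ V i := by
      rw [Scheme.isoSpec_hom_naturality_assoc, Iso.hom_inv_id, Category.comp_id]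
    have heq : (fun a : Y ⟶ (π ⁻¹ᵁ V i : XP.Opens).toScheme => a ≫ π ∣_ V i) =
        (fun a => a ≫ Spec.map (π ∣_ V i).appTop ≫ (V i : Scheme.{u}).isoSpec.inv) ∘
          (Iso.homToEquiv (π ⁻¹ᵁ V i : XP.Opens).toScheme.isoSpec (Z := Y)) := by
      funext a
      show a ≫ π ∣_ V i = (a ≫ (π ⁻¹ᵁ V i : XP.Opens).toScheme.isoSpec.hom) ≫ _
      rw [Category.assoc, e]
    rw [heq]
    exact (huniv Y hY).comp (Equiv.bijective _)
  refine ⟨h, fun Y _ hY => ?_⟩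
  have hYU : ∀ U : Y.Opens, ∃ _ : FrobSch.IsCharP U p, FrobSch.IsPerfect (U : Scheme.{u}) p := fun U =>
    haveI := FrobSch.IsCharP.of_hom U.ι p
    ⟨inferInstance, isPerfect_opens hY U⟩
  -- uniqueness through any open contained in a preimage
  have huniq : ∀ (Z : Scheme.{u}) [FrobSch.IsCharP Z p], FrobSch.IsPerfect Z p → ∀ (i : ι) (a b : Z ⟶ XP),
      a ≫ π = b ≫ π → (∀ z, (a ≫ π) z ∈ V i) → a = b := by
    intro Z _ hZ i a b hab hmem
    obtain ⟨_, hp'⟩ := hloc i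
    have hr : ∀ c : Z ⟶ XP, c ≫ π = a ≫ π → Set.range c ⊆ Set.range (π ⁻¹ᵁ V i).ι := by
      rintro c hc _ ⟨z, rfl⟩
      rw [Scheme.Opens.range_ι]
      show π (c z) ∈ V i
      rw [← Scheme.Hom.comp_apply, hc]
      exact hmem z
    have h1 : IsOpenImmersion.lift _ a (hr a rfl) ≫ (π ∣_ V i) = IsOpenImmersion.lift _ b (hr b hab.symm) ≫ (π ∣_ V i) := by
      rw [← cancel_mono (V i).ι, Category.assoc, Category.assoc, morphismRestrict_ι, IsOpenImmersion.lift_fac_assoc,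
        IsOpenImmersion.lift_fac_assoc]
      exact hab
    have := congrArg (fun l => l ≫ (π ⁻¹ᵁ V i).ι) (hom_ext hp' hZ h1)
    simpa [IsOpenImmersion.lift_fac] using this
  constructor
  · intro a b hab
    change a ≫ π = b ≫ π at hab
    let 𝒰 := Y.openCoverOfIsOpenCover (fun i => (a ≫ π) ⁻¹ᵁ V i)
      (show ⨆ i, (a ≫ π) ⁻¹ᵁ V i = ⊤ by rw [← Scheme.Hom.preimage_iSup, hV]; rfl)
    refine 𝒰.hom_ext _ _ fun i => ?_
    obtain ⟨_, hperf⟩ := hYU ((a ≫ π) ⁻¹ᵁ V i)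
    refine huniq _ hperf i _ _ ?_ fun z => ?_
    · show (((a ≫ π) ⁻¹ᵁ V i).ι ≫ a) ≫ π = (((a ≫ π) ⁻¹ᵁ V i).ι ≫ b) ≫ π
      rw [Category.assoc, Category.assoc, hab]
    · show ((((a ≫ π) ⁻¹ᵁ V i).ι ≫ a) ≫ π) z ∈ V i
      rw [Category.assoc]
      exact z.2
  · intro g
    let 𝒰 := Y.openCoverOfIsOpenCover (fun i => g ⁻¹ᵁ V i)
      (show ⨆ i, g ⁻¹ᵁ V i = ⊤ by rw [← Scheme.Hom.preimage_iSup, hV]; rfl)
    have hex : ∀ i, ∃ l : (g ⁻¹ᵁ V i : Y.Opens).toScheme ⟶ XP, l ≫ π = (g ⁻¹ᵁ V i).ι ≫ g := fun i => by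
      obtain ⟨_, hperf⟩ := hYU (g ⁻¹ᵁ V i)
      obtain ⟨_, hp'⟩ := hloc i
      obtain ⟨l, hl⟩ := exists_lift hp' hperf (g ∣_ V i)
      refine ⟨l ≫ (π ⁻¹ᵁ V i).ι, ?_⟩
      rw [Category.assoc, ← morphismRestrict_ι, reassoc_of% hl, morphismRestrict_ι]
    choose l hl using hex
    have hglue : ∀ i j, pullback.fst (𝒰.f i) (𝒰.f j) ≫ l i = pullback.snd (𝒰.f i) (𝒰.f j) ≫ l j := by
      intro i j
      haveI : IsOpenImmersion (pullback.fst (𝒰.f i) (𝒰.f j) ≫ 𝒰.f i) := inferInstance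
      haveI := FrobSch.IsCharP.of_hom (pullback.fst (𝒰.f i) (𝒰.f j) ≫ 𝒰.f i) p
      obtain ⟨_, hperfW⟩ := hYU (pullback.fst (𝒰.f i) (𝒰.f j) ≫ 𝒰.f i).opensRange
      have hperf : FrobSch.IsPerfect (pullback (𝒰.f i) (𝒰.f j)) p :=
        isPerfect_of_iso (pullback.fst (𝒰.f i) (𝒰.f j) ≫ 𝒰.f i).isoOpensRange.inv hperfW
      refine huniq _ hperf i _ _ ?_ fun z => ?_
      · rw [Category.assoc, Category.assoc, hl, hl]
        exact pullback.condition_assoc g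
      · rw [Category.assoc, hl]
        exact (pullback.fst (𝒰.f i) (𝒰.f j) z).2
    refine ⟨𝒰.glueMorphisms l hglue, 𝒰.hom_ext _ _ fun i => ?_⟩
    rw [Scheme.Cover.ι_glueMorphisms_assoc]
    exact hl i

/-- An affine open of the limit which is a preimage is eventually affine. -/
theorem exists_affine_stage {X : Scheme.{u}} [QuasiSeparatedSpace X] (P : LimLib.FTSystem X)
    {i : P.Jᵒᵖ} {W : (P.D.obj i).Opens} (hW : IsCompact (W : Set (P.D.obj i)))
    (hU : IsAffineOpen (P.π.app i ⁻¹ᵁ W)) :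
    ∃ (k : P.Jᵒᵖ) (a : k ⟶ i), IsAffineOpen (P.D.map a ⁻¹ᵁ W) := by
  obtain ⟨hc⟩ := P.isLimit
  have (j : Over i) : CompactSpace ((opensDiagram P.D i W).obj j) :=
    isCompact_iff_compactSpace.mp (QuasiCompact.isCompact_preimage (f := P.D.map j.hom) _ W.2 hW)
  have (j : Over i) : QuasiSeparatedSpace ((opensDiagram P.D i W).obj j) :=
    quasiSeparatedSpace_of_quasiSeparated (P.D.map j.hom ⁻¹ᵁ W).ι
  have : IsAffine (opensCone P.D (Cone.mk X P.π) i W).pt := hU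
  obtain ⟨j, hj⟩ := Scheme.exists_isAffine_of_isLimit _ _ (isLimitOpensCone P.D (Cone.mk X P.π) hc i W)
  exact ⟨j.left, j.hom, hj⟩

/-- The morphism to `Spec 𝔽_p` of a scheme of characteristic `p`. -/
theorem exists_toZMod (X : Scheme.{u}) [FrobSch.IsCharP X p] :
    Nonempty (X ⟶ Spec (CommRingCat.of (ULift.{u} (ZMod p)))) := by
  refine ⟨X.toSpecΓ ≫ Spec.map (CommRingCat.ofHom ?_)⟩
  refine ((Ideal.Quotient.lift (Ideal.span {(p : ℤ)}) (Int.castRingHom Γ(X, ⊤)) ?_).comp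
    (Int.quotientSpanNatEquivZMod p).symm.toRingHom).comp ULift.ringEquiv.toRingHom
  intro a ha
  obtain ⟨b, rfl⟩ := Ideal.mem_span_singleton'.1 ha
  simp [FrobSch.IsCharP.natCast_eq_zero (X := X) (p := p)]

theorem exists_model (X : Scheme.{u}) [FrobSch.IsCharP X p] [CompactSpace X] [QuasiSeparatedSpace X]
    (hX : FrobSch.IsPerfect X p)
    (hgen : ∀ U : X.Opens, IsAffineOpen U →
      ∃ s : Finset Γ(X, U), ∀ a : Γ(X, U), ∃ n, a ^ p ^ n ∈ Subring.closure (s : Set Γ(X, U))) :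
    ∃ (X0 : Scheme.{u}) (s : X0 ⟶ Spec (CommRingCat.of (ULift.{u} (ZMod p)))) (_ : LocallyOfFinitePresentation s)
      (_ : CompactSpace X0) (_ : QuasiSeparatedSpace X0) (π : X ⟶ X0), FrobSch.IsPerfection π p := by
  classical
  obtain ⟨P⟩ := LimLib.nonempty_ftSystem X
  obtain ⟨hc⟩ := P.isLimit
  obtain ⟨c, hcfin, hccov⟩ := isCompact_and_isOpen_iff_finite_and_eq_biUnion_affineOpens.mp
    (⟨isCompact_univ, isOpen_univ⟩ : IsCompact (Set.univ : Set X) ∧ IsOpen (Set.univ : Set X))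
  haveI : Finite c := hcfin.to_subtype
  -- every piece comes from an affine open at some stage, with the generators
  have hpiece : ∀ U : c, ∃ (k : P.Jᵒᵖ), ∀ (l : P.Jᵒᵖ), (l ⟶ k) → ∃ (W : (P.D.obj l).Opens)
      (_ : IsAffineOpen W) (hWU : P.π.app l ⁻¹ᵁ W = U.1.1),
      ∀ a : Γ(X, U.1.1), ∃ n, a ^ p ^ n ∈ ((P.π.app l).appLE W U.1.1 hWU.ge).hom.range := by
    intro U
    obtain ⟨s, hs⟩ := hgen _ U.1.2
    obtain ⟨i, Wi, hWi, hWiU⟩ := exists_preimage_eq P.D (Cone.mk X P.π) hc U.1.1 U.1.2.isCompact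
    have hWiU' : P.π.app i ⁻¹ᵁ Wi = U.1.1 := by
      first
      | exact hWiU
      | exact hWiU.symm
    obtain ⟨k₀, a₀, hk₀⟩ := exists_affine_stage P hWi (hWiU' ▸ U.1.2)
    have hk₀U : P.π.app k₀ ⁻¹ᵁ (P.D.map a₀ ⁻¹ᵁ Wi) = U.1.1 := by
      rw [← Scheme.Hom.comp_preimage, ← P.π.naturality a₀, ← hWiU']
      simp
    choose j e he t ht using fun x : s =>
      LimLib.exists_appLE_eq (c := Cone.mk X P.π) hc hk₀.isCompact hk₀U x.1
    obtain ⟨k, hk⟩ := Finite.exists_le (α := P.J) (fun x : Option s => x.elim k₀.unop fun x => (j x).unop)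
    refine ⟨op k, fun l b => ?_⟩
    let el : l ⟶ k₀ := b ≫ (homOfLE (hk none)).op
    let ex : ∀ x : s, l ⟶ j x := fun x => b ≫ (homOfLE (hk (some x))).op
    have hWU : P.π.app l ⁻¹ᵁ (P.D.map el ⁻¹ᵁ (P.D.map a₀ ⁻¹ᵁ Wi)) = U.1.1 := by
      rw [← Scheme.Hom.comp_preimage, ← P.π.naturality el, ← hk₀U]
      simp
    refine ⟨P.D.map el ⁻¹ᵁ (P.D.map a₀ ⁻¹ᵁ Wi), hk₀.preimage _, hWU, fun a => ?_⟩
    obtain ⟨n, hn⟩ := hs a
    refine ⟨n, (Subring.closure_le.2 ?_) hn⟩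
    intro x hx
    have hle : P.D.map el ⁻¹ᵁ (P.D.map a₀ ⁻¹ᵁ Wi) ≤
        P.D.map (ex ⟨x, hx⟩) ⁻¹ᵁ (P.D.map (e ⟨x, hx⟩) ⁻¹ᵁ (P.D.map a₀ ⁻¹ᵁ Wi)) := by
      simp only [← Scheme.Hom.comp_preimage, ← P.D.map_comp]
      rw [Subsingleton.elim (ex ⟨x, hx⟩ ≫ e ⟨x, hx⟩ ≫ a₀) (el ≫ a₀)]
    refine ⟨(P.D.map (ex ⟨x, hx⟩)).appLE _ _ hle (t ⟨x, hx⟩), ?_⟩
    refine Eq.trans ?_ (ht ⟨x, hx⟩)
    show ((P.D.map (ex ⟨x, hx⟩)).appLE _ _ hle ≫ (P.π.app l).appLE _ U.1.1 hWU.ge) (t ⟨x, hx⟩) = _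
    rw [Scheme.Hom.appLE_comp_appLE]
    have : P.π.app l ≫ P.D.map (ex ⟨x, hx⟩) = P.π.app (j ⟨x, hx⟩) := by
      rw [← P.π.naturality]; exact Category.id_comp _
    simp only [this]
    rfl
  choose k hk using hpiece
  obtain ⟨l, hl⟩ := Finite.exists_le (α := P.J) fun U : c => (k U).unop
  choose W hWaff hWU hWgen using fun U : c => hk U (op l) (homOfLE (hl U)).op
  let π := P.π.app (op l)
  let Wtot : (P.D.obj (op l)).Opens := ⨆ U : c, W U
  have htop : π ⁻¹ᵁ Wtot = ⊤ := by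
    refine top_le_iff.1 fun x _ => ?_
    obtain ⟨U, hU, hxU⟩ := Set.mem_iUnion₂.1 (hccov ▸ (Set.mem_univ x))
    refine Opens.mem_iSup.2 ⟨⟨U, hU⟩, ?_⟩
    show x ∈ π ⁻¹ᵁ W ⟨U, hU⟩
    rw [hWU]
    exact hxU
  have hr : Set.range π ⊆ Set.range Wtot.ι := by
    rintro _ ⟨x, rfl⟩
    rw [Scheme.Opens.range_ι]
    exact (htop.ge (trivial : x ∈ (⊤ : X.Opens)) :)
  let g : X ⟶ Wtot.toScheme := IsOpenImmersion.lift Wtot.ι π hr
  haveI : CompactSpace Wtot.toScheme := by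
    refine isCompact_iff_compactSpace.mp ?_
    rw [Opens.coe_iSup]
    exact isCompact_iUnion fun U => (hWaff U).isCompact
  haveI : IsAffineHom (P.π.app (op l)) := isAffineHom_π_app P.D (Cone.mk X P.π) hc (op l)
  haveI : IsAffineHom (g ≫ Wtot.ι) := by
    rw [IsOpenImmersion.lift_fac]; infer_instance
  haveI : IsAffineHom g := IsAffineHom.of_comp g Wtot.ι
  let τ := g.toImage
  haveI : IsAffineHom (τ ≫ g.imageι) := by rw [Scheme.Hom.toImage_imageι]; infer_instance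
  haveI : IsAffineHom τ := IsAffineHom.of_comp τ g.imageι
  let j : g.image ⟶ P.D.obj (op l) := g.imageι ≫ Wtot.ι
  have hτj : τ ≫ j = π := by
    rw [Scheme.Hom.toImage_imageι_assoc, IsOpenImmersion.lift_fac]
  let V : c → g.image.Opens := fun U => g.imageι ⁻¹ᵁ (Wtot.ι ⁻¹ᵁ W U)
  have hVW : ∀ U, IsAffineOpen (Wtot.ι ⁻¹ᵁ W U) := fun U =>
    (hWaff U).preimage_of_isOpenImmersion Wtot.ι (by
      rw [Scheme.Opens.opensRange_ι]; exact le_iSup W U)
  have hVaff : ∀ U, IsAffineOpen (V U) := fun U => (hVW U).preimage g.imageι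
  have hVtop : ⨆ U, V U = ⊤ := by
    refine top_le_iff.1 fun x _ => ?_
    obtain ⟨U, hU⟩ := Opens.mem_iSup.1 (show Wtot.ι (g.imageι x) ∈ Wtot from (g.imageι x).2)
    exact Opens.mem_iSup.2 ⟨U, hU⟩
  have hVU : ∀ U, τ ⁻¹ᵁ V U = U.1.1 := fun U => by
    rw [← hWU U, ← Scheme.Hom.comp_preimage, ← Scheme.Hom.comp_preimage, Category.assoc]
    exact congrArg (fun m : X ⟶ _ => m ⁻¹ᵁ W U) hτj
  have hinj : ∀ U, Function.Injective (τ.app (V U)) := fun U => g.toImage_app_injective (U := ⟨_, hVW U⟩)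
  haveI : FrobSch.IsCharP g.image p := by
    refine ⟨g.image.sheaf.eq_of_locally_eq' V ⊤ (fun U => homOfLE le_top) hVtop.ge _ _ fun U => hinj U ?_⟩
    erw [map_natCast, map_natCast, map_zero, map_zero]
    exact FrobSch.natCast_eq_zero_app X p _
  have hR : ∀ U, IsPRad p (τ.app (V U)).hom := by
    intro U
    refine ⟨fun y => ?_, fun x hx => ⟨0, by simpa using hinj U (hx.trans (map_zero _).symm)⟩⟩
    obtain ⟨n, b, hb⟩ := hWgen U (X.presheaf.map (eqToHom (hVU U).symm).op y)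
    refine ⟨n, j.app (W U) b, ?_⟩
    have hiso : Function.Injective (X.presheaf.map (eqToHom (hVU U).symm).op) :=
      ((ConcreteCategory.isIso_iff_bijective _).1 inferInstance).1
    refine hiso ?_
    rw [map_pow, ← hb]
    show ((j.app (W U) ≫ τ.app (V U)) ≫ X.presheaf.map (eqToHom (hVU U).symm).op) b = _
    have e1 : (j.app (W U) ≫ τ.app (V U)) = (τ ≫ j).app (W U) := (Scheme.Hom.comp_app _ _ _).symm
    rw [e1]
    simp only [Scheme.Hom.app_eq_appLE, Scheme.Hom.appLE_map, hτj]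
    rfl
  obtain ⟨s⟩ := exists_toZMod (p := p) g.image
  haveI : LocallyOfFiniteType (specULiftZIsTerminal.from (P.D.obj (op l))) := P.lft _
  haveI : LocallyOfFiniteType (s ≫ specULiftZIsTerminal.from _) := by
    rw [specULiftZIsTerminal.hom_ext (s ≫ specULiftZIsTerminal.from _) (j ≫ specULiftZIsTerminal.from _)]
    infer_instance
  haveI : LocallyOfFiniteType s := locallyOfFiniteType_of_comp s (specULiftZIsTerminal.from _)
  haveI : IsNoetherianRing (ULift.{u} (ZMod p)) := isNoetherianRing_of_ringEquiv _ ULift.ringEquiv.symm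
  haveI : IsLocallyNoetherian g.image := LocallyOfFiniteType.isLocallyNoetherian s
  haveI : CompactSpace g.image := QuasiCompact.compactSpace_of_compactSpace g.imageι
  exact ⟨g.image, s, inferInstance, inferInstance, inferInstance, τ, isPerfection_of_cover τ hX V hVtop hVaff hR⟩

end Groth.Agent.PerfSch.Model
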