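import Groth.Agent.PerfSch.Perfection
import Mathlib.AlgebraicGeometry.Limits
import Mathlib.Algebra.Category.Ring.FilteredColimits
import Mathlib.Algebra.Category.Ring.Limits

/-!
# Compact perfect schemes have perfectly finitely generated rings of sections
-/

set_option autoImplicit false
set_option linter.style.haveILetI false
set_option backward.isDefEq.respectTransparency false
set_option backward.isDefEq.respectTransparency.types false

universe u

open CategoryTheory CategoryTheory.Limits AlgebraicGeometry Opposite TopologicalSpace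

noncomputable section

namespace Groth.Agent.PerfSch.PerfFG

open Groth.Agent.PerfSch.Ring Groth.Agent.PerfSch.Perfect

variable {p : ℕ} [hp : Fact p.Prime] {A : CommRingCat.{u}} (hA : PerfRing p A)

/-- The perfect closure inside `A` of the subring generated by `s`. -/
def perfSub (s : Finset A) : Subring A where
  carrier := {a | ∃ n, a ^ p ^ n ∈ Subring.closure (s : Set A)}
  one_mem' := ⟨0, by simpa using Subring.one_mem _⟩
  zero_mem' := ⟨0, by simpa using Subring.zero_mem _⟩
  mul_mem' := by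
    rintro a b ⟨n, ha⟩ ⟨m, hb⟩
    refine ⟨n + m, ?_⟩
    rw [mul_pow, ← pow_q_pow_q a n m, Nat.add_comm n m, ← pow_q_pow_q b m n]
    exact Subring.mul_mem _ (Subring.pow_mem _ ha _) (Subring.pow_mem _ hb _)
  add_mem' := by
    rintro a b ⟨n, ha⟩ ⟨m, hb⟩
    refine ⟨n + m, ?_⟩
    rw [add_pow_q hA.1, ← pow_q_pow_q a n m, Nat.add_comm n m, ← pow_q_pow_q b m n]
    exact Subring.add_mem _ (Subring.pow_mem _ ha _) (Subring.pow_mem _ hb _)
  neg_mem' := by
    rintro a ⟨n, ha⟩
    refine ⟨n, ?_⟩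
    rw [neg_pow]
    exact Subring.mul_mem _ (Subring.pow_mem _ (Subring.neg_mem _ (Subring.one_mem _)) _) ha

theorem mem_perfSub {s : Finset A} {a : A} :
    a ∈ perfSub hA s ↔ ∃ n, a ^ p ^ n ∈ Subring.closure (s : Set A) := Iff.rfl

theorem subset_perfSub {s : Finset A} {a : A} (h : a ∈ s) : a ∈ perfSub hA s :=
  ⟨0, by simpa using Subring.subset_closure (s := (s : Set A)) h⟩

theorem perfSub_mono {s t : Finset A} (h : s ≤ t) : perfSub hA s ≤ perfSub hA t :=
  fun _ ⟨n, ha⟩ => ⟨n, Subring.closure_mono (fun _ hx => h hx) ha⟩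

theorem perfRing_perfSub (s : Finset A) : PerfRing p (perfSub hA s) := by
  refine ⟨Subtype.ext (by simpa using hA.1), fun a b h => Subtype.ext (hA.2.1 (congrArg Subtype.val h)), fun a => ?_⟩
  obtain ⟨b, hb⟩ := hA.2.2 a.1
  obtain ⟨n, hn⟩ := a.2
  have hb' : b ^ p = a.1 := hb
  refine ⟨⟨b, n + 1, ?_⟩, Subtype.ext hb⟩
  rw [pow_succ', pow_mul, hb']
  exact hn

/-- The system of perfectly finitely generated subrings. -/
def rings : Finset A ⥤ CommRingCat.{u} where
  obj s := CommRingCat.of (perfSub hA s)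
  map h := CommRingCat.ofHom (Subring.inclusion (perfSub_mono hA (leOfHom h)))
  map_id s := CommRingCat.hom_ext (RingHom.ext fun ⟨x, hx⟩ => Subtype.ext (Eq.refl x))
  map_comp {s t w} h h' := CommRingCat.hom_ext (RingHom.ext fun ⟨x, hx⟩ => Subtype.ext (Eq.refl x))

/-- The cocone with vertex `A`. -/
def ringCocone : Cocone (rings hA) where
  pt := A
  ι := { app := fun s => CommRingCat.ofHom (perfSub hA s).subtype
         naturality := fun s t h => CommRingCat.hom_ext (RingHom.ext fun ⟨x, hx⟩ => Eq.refl x) }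

theorem nonempty_isColimit : Nonempty (IsColimit (ringCocone hA)) := by
  classical
  have : ReflectsColimit (rings hA) (forget CommRingCat.{u}) :=
    reflectsColimit_of_reflectsIsomorphisms _ _
  refine ⟨isColimitOfReflects (forget CommRingCat.{u}) (Types.FilteredColimit.isColimitOf _ _
    (fun a => ?_) fun s t x y h => ?_)⟩
  · exact ⟨{a}, ⟨a, subset_perfSub hA (Finset.mem_singleton_self _)⟩, rfl⟩
  · exact ⟨s ⊔ t, homOfLE le_sup_left, homOfLE le_sup_right, Subtype.ext h⟩

theorem isCharP_Spec {B : CommRingCat.{u}} (hB : PerfRing p B) : FrobSch.IsCharP (Spec B) p :=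
  ⟨(hB.of_ringEquiv (Scheme.ΓSpecIso B).commRingCatIsoToRingEquiv.symm).1⟩

theorem isPerfect_Spec {B : CommRingCat.{u}} (hB : PerfRing p B) [FrobSch.IsCharP (Spec B) p] :
    FrobSch.IsPerfect (Spec B) p :=
  isPerfect_of_isAffine (hB.of_ringEquiv (Scheme.ΓSpecIso B).commRingCatIsoToRingEquiv.symm)

omit hA in
/-- If morphisms out of limits of perfect schemes into `X` come from finite stages, rings of sections of
affine opens are perfectly finitely generated. -/
theorem exists_generators (X : Scheme.{u}) [FrobSch.IsCharP X p] (hX : FrobSch.IsPerfect X p)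
    (hc : ∀ (J : Type u) [SmallCategory J] [IsCofiltered J] (F : J ⥤ Scheme.{u})
      [∀ j, FrobSch.IsCharP (F.obj j) p] (c : Cone F) [FrobSch.IsCharP c.pt p], IsLimit c →
      (∀ ⦃i j : J⦄ (a : i ⟶ j), IsAffineHom (F.map a)) →
      (∀ j, FrobSch.IsPerfect (F.obj j) p ∧ CompactSpace (F.obj j) ∧ QuasiSeparatedSpace (F.obj j)) →
      FrobSch.IsPerfect c.pt p → CompactSpace c.pt → QuasiSeparatedSpace c.pt →
      ∀ g : c.pt ⟶ X, ∃ (j : J) (gj : F.obj j ⟶ X), c.π.app j ≫ gj = g)
    {U : X.Opens} (hU : IsAffineOpen U) :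
    ∃ s : Finset Γ(X, U), ∀ a : Γ(X, U), ∃ n, a ^ p ^ n ∈ Subring.closure (s : Set Γ(X, U)) := by
  classical
  have hA : PerfRing p Γ(X, U) := perfRing_of_isPerfect hX U
  obtain ⟨hcol⟩ := nonempty_isColimit hA
  let F := (rings hA).op ⋙ Scheme.Spec
  let c : Cone F := Scheme.Spec.mapCone (ringCocone hA).op
  haveI : ∀ j, FrobSch.IsCharP (F.obj j) p := fun j => isCharP_Spec (perfRing_perfSub hA j.unop)
  haveI : FrobSch.IsCharP c.pt p := isCharP_Spec hA
  haveI : ∀ j, IsAffine (F.obj j) := fun j => inferInstanceAs (IsAffine (Spec _))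
  haveI : IsAffine c.pt := inferInstanceAs (IsAffine (Spec Γ(X, U)))
  haveI : FrobSch.IsCharP (Spec Γ(X, U)) p := isCharP_Spec hA
  obtain ⟨⟨s⟩, g, hg⟩ := hc _ F c (isLimitOfPreserves Scheme.Spec hcol.op)
    (fun i j a => inferInstanceAs (IsAffineHom (Spec.map _)))
    (fun j => ⟨@isPerfect_Spec p _ _ (perfRing_perfSub hA j.unop) (isCharP_Spec (perfRing_perfSub hA j.unop)),
      inferInstance, inferInstance⟩)
    (isPerfect_Spec hA) inferInstance inferInstance hU.fromSpec
  obtain ⟨g, hg'⟩ : ∃ g : Spec (CommRingCat.of (perfSub hA s)) ⟶ X,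
      Spec.map (CommRingCat.ofHom (perfSub hA s).subtype) ≫ g = hU.fromSpec := ⟨g, hg⟩
  let Z : Set (PrimeSpectrum (perfSub hA s)) := (g ⁻¹ᵁ U).carrierᶜ
  have hZ : IsClosed Z := (g ⁻¹ᵁ U).2.isClosed_compl
  obtain ⟨I, hI⟩ := (PrimeSpectrum.isClosed_iff_zeroLocus_ideal Z).1 hZ
  have htop : I.map (perfSub hA s).subtype = ⊤ := by
    by_contra hne
    obtain ⟨P, hP, hIP⟩ := Ideal.exists_le_maximal _ hne
    let x : Spec (CommRingCat.of Γ(X, U)) := (⟨P, hP.isPrime⟩ : PrimeSpectrum Γ(X, U))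
    let y : PrimeSpectrum (perfSub hA s) := Spec.map (CommRingCat.ofHom (perfSub hA s).subtype) x
    have hmem : y ∈ PrimeSpectrum.zeroLocus (I : Set (perfSub hA s)) := fun a ha => hIP (Ideal.mem_map_of_mem _ ha)
    rw [← hI] at hmem
    refine hmem (show g (Spec.map (CommRingCat.ofHom (perfSub hA s).subtype) x) ∈ U from ?_)
    rw [← Scheme.Hom.comp_apply, hg']
    rw [← SetLike.mem_coe, ← hU.range_fromSpec]
    exact Set.mem_range_self _
  obtain ⟨m, f, w, hfw⟩ := Submodule.mem_span_set'.1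
    (show (1 : Γ(X, U)) ∈ Submodule.span Γ(X, U) ((perfSub hA s).subtype '' I) from
      (Ideal.eq_top_iff_one _).1 htop)
  let t : Finset Γ(X, U) := s ∪ Finset.univ.image f
  let ψ : CommRingCat.of (perfSub hA s) ⟶ CommRingCat.of (perfSub hA t) :=
    (rings hA).map (homOfLE Finset.subset_union_left)
  have htop' : I.map ψ.hom = ⊤ := by
    rw [Ideal.eq_top_iff_one]
    choose w' hw' hww using fun i => (w i).2
    have h1 : (1 : perfSub hA t) = ∑ i, (⟨f i, subset_perfSub hA (Finset.mem_union_right _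
        (Finset.mem_image_of_mem f (Finset.mem_univ i)))⟩ : perfSub hA t) * ψ (w' i) := by
      refine Subtype.ext ?_
      rw [AddSubmonoidClass.coe_finsetSum]
      refine hfw.symm.trans (Finset.sum_congr rfl fun i _ => ?_)
      rw [smul_eq_mul, ← hww i]
      rfl
    rw [h1]
    exact Ideal.sum_mem _ fun i _ => Ideal.mul_mem_left _ _ (Ideal.mem_map_of_mem _ (hw' i))
  have hrange : Set.range (Spec.map ψ ≫ g) ⊆ Set.range hU.fromSpec := by
    rintro _ ⟨q, rfl⟩
    rw [hU.range_fromSpec]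
    by_contra hq
    have hmem : Spec.map ψ q ∈ PrimeSpectrum.zeroLocus (I : Set (perfSub hA s)) := hI ▸ hq
    exact q.isPrime.ne_top (top_le_iff.1 (htop' ▸ Ideal.map_le_iff_le_comap.2 hmem))
  let l := IsOpenImmersion.lift hU.fromSpec (Spec.map ψ ≫ g) hrange
  have hl : Spec.map (CommRingCat.ofHom (perfSub hA t).subtype) ≫ l = 𝟙 _ := by
    rw [← cancel_mono hU.fromSpec, Category.assoc, IsOpenImmersion.lift_fac, Category.id_comp, ← Spec.map_comp_assoc,
      show ψ ≫ CommRingCat.ofHom (perfSub hA t).subtype = CommRingCat.ofHom (perfSub hA s).subtype from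
        CommRingCat.hom_ext (RingHom.ext fun ⟨x, hx⟩ => Eq.refl x)]
    exact hg'
  refine ⟨t, fun a => ?_⟩
  have hid : Spec.preimage l ≫ CommRingCat.ofHom (perfSub hA t).subtype = 𝟙 _ := by
    apply Spec.map_injective
    rw [Spec.map_comp, Spec.map_preimage, hl, Spec.map_id]
    rfl
  obtain ⟨n, hn⟩ := (Spec.preimage l a).2
  refine ⟨n, ?_⟩
  have ha : (Spec.preimage l a).1 = a := ConcreteCategory.congr_hom hid a
  rwa [ha] at hn

end Groth.Agent.PerfSch.PerfFG
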