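import Groth.Agent.PerfSch.Perfect
import Mathlib.AlgebraicGeometry.Morphisms.Integral
import Mathlib.FieldTheory.IsAlgClosed.AlgebraicClosure

/-!
# Structure of a perfection of a scheme of characteristic p

A perfection restricts to perfections over opens, is affine (over an affine open it is the perfect
closure of the ring of sections), integral, and a universal homeomorphism.
-/

universe u

open CategoryTheory CategoryTheory.Limits AlgebraicGeometry Opposite TopologicalSpace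

set_option backward.isDefEq.respectTransparency.types false
set_option backward.isDefEq.respectTransparency false

namespace Groth.Agent.PerfSch.Perfection

open Groth.Agent.PerfSch.Ring Groth.Agent.PerfSch.Perfect

variable {p : ℕ} [hp : Fact p.Prime] {XP X : Scheme.{u}} [FrobSch.IsCharP XP p] {π : XP ⟶ X}

theorem hom_ext (hπ : FrobSch.IsPerfection π p) {Y : Scheme.{u}} [FrobSch.IsCharP Y p]
    (hY : FrobSch.IsPerfect Y p) {a b : Y ⟶ XP} (h : a ≫ π = b ≫ π) : a = b :=
  (hπ.2 Y hY).1 h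

theorem exists_lift (hπ : FrobSch.IsPerfection π p) {Y : Scheme.{u}} [FrobSch.IsCharP Y p]
    (hY : FrobSch.IsPerfect Y p) (h : Y ⟶ X) : ∃ g : Y ⟶ XP, g ≫ π = h :=
  (hπ.2 Y hY).2 h

theorem restrict (hπ : FrobSch.IsPerfection π p) (U : X.Opens)
    [FrobSch.IsCharP (π ⁻¹ᵁ U : XP.Opens) p] : FrobSch.IsPerfection (π ∣_ U) p := by
  refine ⟨isPerfect_opens hπ.1 _, fun Y _ hY => ⟨fun a b e => ?_, fun h => ?_⟩⟩
  · rw [← cancel_mono (π ⁻¹ᵁ U).ι]
    refine hom_ext hπ hY ?_
    simp only [Category.assoc, ← morphismRestrict_ι]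
    have e' : a ≫ (π ∣_ U) = b ≫ (π ∣_ U) := e
    rw [reassoc_of% e']
  · obtain ⟨g, hg⟩ := exists_lift hπ hY (h ≫ U.ι)
    have hr : Set.range g ⊆ Set.range (π ⁻¹ᵁ U).ι := by
      rintro _ ⟨y, rfl⟩
      rw [Scheme.Opens.range_ι]
      change π (g y) ∈ U
      rw [← Scheme.Hom.comp_apply, hg, Scheme.Hom.comp_apply]
      exact (h y).2
    refine ⟨IsOpenImmersion.lift (π ⁻¹ᵁ U).ι g hr, ?_⟩
    rw [← cancel_mono U.ι]
    simp [hg]

theorem exists_iso {XP' : Scheme.{u}} [FrobSch.IsCharP XP' p] {π' : XP' ⟶ X}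
    (hπ : FrobSch.IsPerfection π p) (hπ' : FrobSch.IsPerfection π' p) :
    ∃ e : XP ≅ XP', e.hom ≫ π' = π := by
  obtain ⟨a, ha⟩ := exists_lift hπ' hπ.1 π
  obtain ⟨b, hb⟩ := exists_lift hπ hπ'.1 π'
  exact ⟨⟨a, b, hom_ext hπ hπ.1 (by simp [hb, ha]), hom_ext hπ' hπ'.1 (by simp [ha, hb])⟩, ha⟩

omit [FrobSch.IsCharP XP p] in
theorem isPerfection_Spec [IsAffine X] (hX : (p : Γ(X, ⊤)) = 0) {P : CommRingCat.{u}}
    (ι : Γ(X, ⊤) ⟶ P) (hP : PerfRing p P) (hι : IsPRad p ι.hom) [FrobSch.IsCharP (Spec P) p] :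
    FrobSch.IsPerfection (Spec.map ι ≫ X.isoSpec.inv) p := by
  refine ⟨isPerfect_of_isAffine
    (hP.of_ringEquiv (Scheme.ΓSpecIso P).commRingCatIsoToRingEquiv.symm), fun Y _ hY => ⟨?_, ?_⟩⟩
  · intro a b e
    have ha : ∀ c : Y ⟶ Spec P, (c ≫ Spec.map ι ≫ X.isoSpec.inv).appTop =
        X.isoSpec.inv.appTop ≫ (Scheme.ΓSpecIso Γ(X, ⊤)).hom ≫ ι ≫
          ((Scheme.ΓSpecIso P).inv ≫ c.appTop) := fun c => by
      simp only [Scheme.Hom.comp_appTop, Category.assoc]
      rw [← Scheme.ΓSpecIso_naturality_assoc, Iso.hom_inv_id_assoc]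
    have h := congrArg (fun c => Scheme.Hom.appTop c) e
    simp only [ha, cancel_epi] at h
    apply ext_of_isAffine
    rw [← cancel_epi (Scheme.ΓSpecIso P).inv]
    ext1
    exact (hι.existsUnique_lift hX (perfRing_of_isPerfect hY ⊤)
      (ι ≫ (Scheme.ΓSpecIso P).inv ≫ b.appTop).hom).unique (congrArg CommRingCat.Hom.hom h) rfl
  · intro h
    obtain ⟨ψ, hψ, -⟩ := hι.existsUnique_lift hX (perfRing_of_isPerfect hY ⊤) h.appTop.hom
    refine ⟨Y.toSpecΓ ≫ Spec.map (CommRingCat.ofHom ψ), ?_⟩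
    have : ι ≫ CommRingCat.ofHom ψ = h.appTop := CommRingCat.hom_ext hψ
    simp only [Category.assoc, ← Spec.map_comp_assoc, this]
    rw [← Scheme.toSpecΓ_naturality_assoc, Scheme.toSpecΓ_isoSpec_inv, Category.comp_id]

theorem affine_case [IsAffine X] [FrobSch.IsCharP X p] (hπ : FrobSch.IsPerfection π p) :
    IsAffine XP ∧ IsPRad p π.appTop.hom := by
  have hX : (p : Γ(X, ⊤)) = 0 := FrobSch.IsCharP.natCast_eq_zero
  obtain ⟨P, ι, hP, hι⟩ := exists_perfectClosure Γ(X, ⊤) hX
  have : FrobSch.IsCharP (Spec P) p :=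
    ⟨(hP.of_ringEquiv (Scheme.ΓSpecIso P).commRingCatIsoToRingEquiv.symm).1⟩
  obtain ⟨e, he⟩ := exists_iso hπ (isPerfection_Spec hX (CommRingCat.ofHom ι) hP hι)
  refine ⟨.of_isIso e.hom, ?_⟩
  subst he
  have : (e.hom ≫ Spec.map (CommRingCat.ofHom ι) ≫ X.isoSpec.inv).appTop =
      (X.isoSpec.inv.appTop ≫ (Scheme.ΓSpecIso _).hom) ≫ CommRingCat.ofHom ι ≫
        ((Scheme.ΓSpecIso P).inv ≫ e.hom.appTop) := by
    simp only [Scheme.Hom.comp_appTop, Category.assoc]
    rw [← Scheme.ΓSpecIso_naturality_assoc]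
    erw [Iso.hom_inv_id_assoc]
  rw [this]
  exact (hι.comp_equiv_right (asIso ((Scheme.ΓSpecIso P).inv ≫ e.hom.appTop)).commRingCatIsoToRingEquiv
    ).comp_equiv_left
      (asIso (X.isoSpec.inv.appTop ≫ (Scheme.ΓSpecIso _).hom)).commRingCatIsoToRingEquiv

omit hp in
theorem isPRad_of_comp_iso {A B C : CommRingCat.{u}} (φ : A ⟶ B) (ψ : B ⟶ C) [IsIso ψ]
    (h : IsPRad p (φ ≫ ψ).hom) : IsPRad p φ.hom := by
  have e := h.comp_equiv_right (asIso ψ).symm.commRingCatIsoToRingEquiv
  convert e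
  ext x
  simp

theorem affineOpen_case [FrobSch.IsCharP X p] (hπ : FrobSch.IsPerfection π p) {U : X.Opens}
    (hU : IsAffineOpen U) : IsAffineOpen (π ⁻¹ᵁ U) ∧ IsPRad p (π.app U).hom := by
  have := FrobSch.IsCharP.of_hom U.ι p
  have := FrobSch.IsCharP.of_hom (π ⁻¹ᵁ U).ι p
  have : IsAffine U := hU
  obtain ⟨h1, h2⟩ := affine_case (restrict hπ U)
  refine ⟨h1, ?_⟩
  rw [morphismRestrict_appTop] at h2
  suffices ∀ V : X.Opens, V = U → IsPRad p (π.app V).hom → IsPRad p (π.app U).hom by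
    exact this _ U.ι_image_top (isPRad_of_comp_iso _ _ h2)
  rintro V rfl h
  exact h

theorem isAffineHom [FrobSch.IsCharP X p] (hπ : FrobSch.IsPerfection π p) : IsAffineHom π :=
  ⟨fun _ hU => (affineOpen_case hπ hU).1⟩

theorem isIntegralHom [FrobSch.IsCharP X p] (hπ : FrobSch.IsPerfection π p) : IsIntegralHom π :=
  { isAffineHom hπ with isIntegral_app := fun _ hU => (affineOpen_case hπ hU).2.isIntegral }

theorem surjective [FrobSch.IsCharP X p] (hπ : FrobSch.IsPerfection π p) : Surjective π := by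
  refine ⟨fun x => ?_⟩
  have := charP_residueField (p := p) x
  let L := AlgebraicClosure (X.residueField x)
  have : CharP L p := charP_of_injective_algebraMap (algebraMap (X.residueField x) L).injective p
  obtain ⟨g, hg⟩ := exists_lift hπ (isPerfect_Spec_field L)
    (Spec.map (CommRingCat.ofHom (algebraMap (X.residueField x) L)) ≫ X.fromSpecResidueField x)
  refine ⟨g (IsLocalRing.closedPoint L), ?_⟩
  rw [← Scheme.Hom.comp_apply, hg, Scheme.Hom.comp_apply]
  exact Scheme.fromSpecResidueField_apply _ _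

theorem universallyInjective (hπ : FrobSch.IsPerfection π p) : UniversallyInjective π := by
  rw [UniversallyInjective.iff_diagonal]
  refine ⟨fun z => ?_⟩
  have := FrobSch.IsCharP.of_hom (pullback.fst π π) p
  have := charP_residueField (p := p) z
  let L := AlgebraicClosure ((pullback π π).residueField z)
  have : CharP L p :=
    charP_of_injective_algebraMap (algebraMap ((pullback π π).residueField z) L).injective p
  let a : Spec (CommRingCat.of L) ⟶ pullback π π :=
    Spec.map (CommRingCat.ofHom (algebraMap ((pullback π π).residueField z) L)) ≫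
      (pullback π π).fromSpecResidueField z
  have h1 : a ≫ pullback.fst π π = a ≫ pullback.snd π π :=
    hom_ext hπ (isPerfect_Spec_field L) (by simp [pullback.condition])
  have h2 : a = (a ≫ pullback.fst π π) ≫ pullback.diagonal π := by
    apply pullback.hom_ext <;> simp [h1]
  refine ⟨(a ≫ pullback.fst π π) (IsLocalRing.closedPoint L), ?_⟩
  rw [← Scheme.Hom.comp_apply, ← h2, Scheme.Hom.comp_apply]
  exact Scheme.fromSpecResidueField_apply _ _

theorem universallyClosed [FrobSch.IsCharP X p] (hπ : FrobSch.IsPerfection π p) :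
    UniversallyClosed π :=
  have := isIntegralHom hπ
  inferInstance

theorem isUnivHomeo [FrobSch.IsCharP X p] (hπ : FrobSch.IsPerfection π p) :
    FlatMor.IsUnivHomeo π :=
  (isUnivHomeo_iff π).2 ⟨universallyInjective hπ, surjective hπ, universallyClosed hπ⟩

theorem isHomeomorph [FrobSch.IsCharP X p] (hπ : FrobSch.IsPerfection π p) : IsHomeomorph π :=
  isHomeomorph_of_isUnivHomeo π (isUnivHomeo hπ)

end Groth.Agent.PerfSch.Perfection
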