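import Mathlib.FieldTheory.IsPerfectClosure
import Mathlib.Algebra.Category.Ring.Basic

/-!
# p-radical maps to perfect rings, without any `CharP` assumption (the zero ring is allowed)
-/

universe u

namespace Groth.Agent.PerfSch.Ring

variable (p : ℕ)

/-- `p = 0` and `x ↦ x ^ p` is bijective. -/
def PerfRing (M : Type*) [CommRing M] : Prop :=
  (p : M) = 0 ∧ Function.Bijective (fun x : M => x ^ p)

/-- every element has a `p`-power in the image and the kernel is killed by `p`-powers. -/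
def IsPRad {R P : Type*} [CommRing R] [CommRing P] (ι : R →+* P) : Prop :=
  (∀ y, ∃ (n : ℕ) (x : R), ι x = y ^ p ^ n) ∧ ∀ x, ι x = 0 → ∃ n, x ^ p ^ n = 0

variable {p} [hp : Fact p.Prime]
variable {R P M : Type*} [CommRing R] [CommRing P] [CommRing M]

theorem q_pos (n : ℕ) : 0 < p ^ n := pow_pos hp.out.pos n

theorem add_pow_q (h : (p : R) = 0) (a b : R) (n : ℕ) :
    (a + b) ^ p ^ n = a ^ p ^ n + b ^ p ^ n := by
  rcases subsingleton_or_nontrivial R with hR | hR
  · exact Subsingleton.elim _ _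
  · have : CharP R p := (CharP.charP_iff_prime_eq_zero hp.out).2 h
    exact add_pow_char_pow a b p n

/-- `x ↦ x ^ (p ^ n)` as a ring map. -/
def powQ (h : (p : R) = 0) (n : ℕ) : R →+* R where
  toFun x := x ^ p ^ n
  map_one' := one_pow _
  map_mul' a b := mul_pow a b _
  map_zero' := zero_pow (q_pos n).ne'
  map_add' a b := add_pow_q h a b n

theorem sub_pow_q (h : (p : R) = 0) (a b : R) (n : ℕ) :
    (a - b) ^ p ^ n = a ^ p ^ n - b ^ p ^ n := map_sub (powQ h n) a b

theorem sum_pow_q (h : (p : R) = 0) {α : Type*} (s : Finset α) (f : α → R) (n : ℕ) :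
    (∑ i ∈ s, f i) ^ p ^ n = ∑ i ∈ s, f i ^ p ^ n := map_sum (powQ h n) f s

omit hp in
theorem pow_q_pow_q (x : R) (n m : ℕ) : (x ^ p ^ n) ^ p ^ m = x ^ p ^ (n + m) := by
  rw [← pow_mul, ← pow_add]

omit hp in
theorem PerfRing.bijective_pow_q (hM : PerfRing p M) (n : ℕ) :
    Function.Bijective (fun x : M => x ^ p ^ n) := by
  induction n with
  | zero => convert Function.bijective_id using 2 with x; simp
  | succ n ih =>
    have : (fun x : M => x ^ p ^ (n + 1)) = (fun x : M => x ^ p) ∘ (fun x : M => x ^ p ^ n) := by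
      ext x; simp [pow_succ, pow_mul]
    rw [this]; exact hM.2.comp ih

omit hp in
theorem PerfRing.eq_of_pow_eq (hM : PerfRing p M) {a b : M} (n : ℕ)
    (h : a ^ p ^ n = b ^ p ^ n) : a = b := (hM.bijective_pow_q n).1 h

theorem PerfRing.eq_zero_of_pow (hM : PerfRing p M) {a : M} (n : ℕ)
    (h : a ^ p ^ n = 0) : a = 0 := hM.eq_of_pow_eq n (by rw [h, zero_pow (q_pos n).ne'])

omit hp in
theorem PerfRing.exists_root (hM : PerfRing p M) (a : M) (n : ℕ) :
    ∃ b, b ^ p ^ n = a := (hM.bijective_pow_q n).2 a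

theorem PerfRing.isReduced (hM : PerfRing p M) : IsReduced M := by
  refine ⟨fun a ⟨k, hk⟩ => ?_⟩
  have : k ≤ p ^ k := (Nat.lt_pow_self hp.out.one_lt).le
  exact hM.eq_zero_of_pow k (pow_eq_zero_of_le this hk)

omit hp in
theorem PerfRing.of_ringEquiv (hM : PerfRing p M) (e : M ≃+* P) : PerfRing p P := by
  refine ⟨by simpa using congrArg e hM.1, ?_⟩
  have : (fun x : P => x ^ p) = e ∘ (fun x : M => x ^ p) ∘ e.symm := by ext x; simp
  rw [this]
  exact e.bijective.comp (hM.2.comp e.symm.bijective)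

/-- the universal property of a `p`-radical map towards perfect rings -/
theorem IsPRad.existsUnique_lift {ι : R →+* P} (hι : IsPRad p ι) (hR : (p : R) = 0)
    (hM : PerfRing p M) (φ : R →+* M) : ∃! ψ : P →+* M, ψ.comp ι = φ := by
  have hP : (p : P) = 0 := by simpa using congrArg ι hR
  let Rel : P → M → Prop := fun y z => ∃ n x, ι x = y ^ p ^ n ∧ z ^ p ^ n = φ x
  have hex : ∀ y, ∃ z, Rel y z := fun y => by
    obtain ⟨n, x, hx⟩ := hι.1 y
    obtain ⟨z, hz⟩ := hM.exists_root (φ x) n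
    exact ⟨z, n, x, hx, hz⟩
  have huniq : ∀ {y z z'}, Rel y z → Rel y z' → z = z' := by
    rintro y z z' ⟨n, x, hx, hz⟩ ⟨m, x', hx', hz'⟩
    have : ι (x ^ p ^ m - x' ^ p ^ n) = 0 := by
      rw [map_sub, map_pow, map_pow, hx, hx', pow_q_pow_q, pow_q_pow_q, Nat.add_comm, sub_self]
    obtain ⟨k, hk⟩ := hι.2 _ this
    apply hM.eq_of_pow_eq (n + m)
    apply hM.eq_of_pow_eq k
    have := congrArg φ (sub_eq_zero.1 ((sub_pow_q hR _ _ k).symm.trans hk))
    simp only [map_pow, ← hz, ← hz', pow_q_pow_q] at this ⊢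
    rwa [Nat.add_left_comm m n, ← Nat.add_assoc] at this
  choose ψ hψ using hex
  have h0 : ∀ x, Rel (ι x) (φ x) := fun x => ⟨0, x, by simp, by simp⟩
  have hmul : ∀ a b, ψ (a * b) = ψ a * ψ b := by
    intro a b
    obtain ⟨n, x, hx, hz⟩ := hψ a
    obtain ⟨m, x', hx', hz'⟩ := hψ b
    refine huniq (hψ _) ⟨n + m, x ^ p ^ m * x' ^ p ^ n, ?_, ?_⟩
    · rw [map_mul, map_pow, map_pow, hx, hx', pow_q_pow_q, pow_q_pow_q, mul_pow,
        Nat.add_comm m n]
    · rw [map_mul, map_pow, map_pow, ← hz, ← hz', pow_q_pow_q, pow_q_pow_q, mul_pow,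
        Nat.add_comm m n]
  have hadd : ∀ a b, ψ (a + b) = ψ a + ψ b := by
    intro a b
    obtain ⟨n, x, hx, hz⟩ := hψ a
    obtain ⟨m, x', hx', hz'⟩ := hψ b
    refine huniq (hψ _) ⟨n + m, x ^ p ^ m + x' ^ p ^ n, ?_, ?_⟩
    · rw [map_add, map_pow, map_pow, hx, hx', pow_q_pow_q, pow_q_pow_q, add_pow_q hP,
        Nat.add_comm m n]
    · rw [map_add, map_pow, map_pow, ← hz, ← hz', pow_q_pow_q, pow_q_pow_q, add_pow_q hM.1,
        Nat.add_comm m n]
  let Ψ : P →+* M :=
    { toFun := ψ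
      map_one' := huniq (hψ _) (by simpa using h0 1)
      map_mul' := hmul
      map_zero' := huniq (hψ _) (by simpa using h0 0)
      map_add' := hadd }
  refine ⟨Ψ, RingHom.ext fun x => huniq (hψ _) (h0 x), fun g hg => RingHom.ext fun y => ?_⟩
  obtain ⟨n, x, hx⟩ := hι.1 y
  exact huniq ⟨n, x, hx, by rw [← map_pow, ← hx, ← RingHom.comp_apply, hg]⟩ (hψ y)

theorem exists_perfectClosure (R : Type u) [CommRing R] (hR : (p : R) = 0) :
    ∃ (P : CommRingCat.{u}) (ι : R →+* P), PerfRing p P ∧ IsPRad p ι := by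
  rcases subsingleton_or_nontrivial R with h | h
  · exact ⟨CommRingCat.of R, RingHom.id R, ⟨hR, fun a b _ => Subsingleton.elim (α := R) a b,
      fun a => ⟨a, Subsingleton.elim (α := R) _ _⟩⟩,
      fun y => ⟨0, y, Subsingleton.elim (α := R) _ _⟩,
      fun x _ => ⟨0, Subsingleton.elim (α := R) _ _⟩⟩
  · have : CharP R p := (CharP.charP_iff_prime_eq_zero hp.out).2 hR
    have : CharP (PerfectClosure R p) p := inferInstance
    refine ⟨CommRingCat.of (PerfectClosure R p), PerfectClosure.of R p,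
      ⟨CharP.cast_eq_zero (PerfectClosure R p) p, ?_⟩, fun y => ?_, fun x hx => ?_⟩
    · exact (PerfectRing.bijective_frobenius (R := PerfectClosure R p) (p := p))
    · obtain ⟨n, x, hx⟩ := IsPRadical.pow_mem (PerfectClosure.of R p) p y
      exact ⟨n, x, hx⟩
    · exact mem_pNilradical.1 (IsPRadical.ker_le (PerfectClosure.of R p) p hx)

theorem IsPRad.isIntegral {ι : R →+* P} (hι : IsPRad p ι) : ι.IsIntegral := by
  intro y
  obtain ⟨n, x, hx⟩ := hι.1 y
  let _ := ι.toAlgebra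
  exact IsIntegral.of_pow (q_pos n) (hx ▸ ι.isIntegralElem_map (x := x))

omit hp in
theorem IsPRad.comp_equiv_right {Q : Type*} [CommRing Q] {ι : R →+* P} (hι : IsPRad p ι)
    (e : P ≃+* Q) : IsPRad p (e.toRingHom.comp ι) := by
  refine ⟨fun y => ?_, fun x hx => hι.2 x (e.injective (by simpa using hx))⟩
  obtain ⟨n, x, hx⟩ := hι.1 (e.symm y)
  exact ⟨n, x, by simp [hx]⟩

omit hp in
theorem IsPRad.comp_equiv_left {Q : Type*} [CommRing Q] {ι : R →+* P} (hι : IsPRad p ι)
    (e : Q ≃+* R) : IsPRad p (ι.comp e.toRingHom) := by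
  refine ⟨fun y => ?_, fun x hx => ?_⟩
  · obtain ⟨n, x, hx⟩ := hι.1 y
    exact ⟨n, e.symm x, by simp [hx]⟩
  · obtain ⟨n, hn⟩ := hι.2 (e x) (by simpa using hx)
    exact ⟨n, e.injective (by simpa using hn)⟩

end Groth.Agent.PerfSch.Ring
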