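import Groth.Agent.PerfSch.Perfection
import Mathlib.AlgebraicGeometry.Morphisms.QuasiSeparated
import Mathlib.AlgebraicGeometry.Morphisms.Proper
import Mathlib.AlgebraicGeometry.Morphisms.Separated
import Mathlib.AlgebraicGeometry.Morphisms.Immersion

/-!
# Descending properties along surjective universal homeomorphisms on the source
-/

universe u

open CategoryTheory CategoryTheory.Limits AlgebraicGeometry Opposite TopologicalSpace

set_option backward.isDefEq.respectTransparency.types false
set_option backward.isDefEq.respectTransparency false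

namespace Groth.Agent.PerfSch.Transfer

variable {W X Y : Scheme.{u}} (g : W ⟶ X) (f : X ⟶ Y)

theorem quasiCompact_of_comp_surjective [Surjective g] [QuasiCompact (g ≫ f)] : QuasiCompact f := by
  refine ⟨fun U hU hU' => ?_⟩
  have h := (((g ≫ f).isCompact_preimage (U := ⟨U, hU⟩) hU').image g.continuous)
  convert h using 1
  ext x
  constructor
  · intro hx
    obtain ⟨w, rfl⟩ := g.surjective x
    exact ⟨w, by simpa using hx, rfl⟩
  · rintro ⟨w, hw, rfl⟩
    simpa using hw

theorem diagonal_fac : g ≫ pullback.diagonal f = pullback.diagonal (g ≫ f) ≫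
    pullback.map (g ≫ f) (g ≫ f) f f g g (𝟙 Y) (Category.comp_id _) (Category.comp_id _) := by
  apply pullback.hom_ext <;> simp

theorem universallyClosed_map [UniversallyClosed g] :
    UniversallyClosed (pullback.map (g ≫ f) (g ≫ f) f f g g (𝟙 Y) (Category.comp_id _) (Category.comp_id _)) :=
  MorphismProperty.pullbackMap (P := @UniversallyClosed) ‹_› ‹_› rfl rfl

theorem quasiCompact_map [QuasiCompact g] :
    QuasiCompact (pullback.map (g ≫ f) (g ≫ f) f f g g (𝟙 Y) (Category.comp_id _) (Category.comp_id _)) :=
  MorphismProperty.pullbackMap (P := @QuasiCompact) ‹_› ‹_› rfl rfl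

theorem surjective_map [Surjective g] :
    Surjective (pullback.map (g ≫ f) (g ≫ f) f f g g (𝟙 Y) (Category.comp_id _) (Category.comp_id _)) :=
  MorphismProperty.pullbackMap (P := @Surjective) ‹_› ‹_› rfl rfl

theorem quasiSeparated_of_comp_surjective [Surjective g] [QuasiCompact g]
    [QuasiSeparated (g ≫ f)] : QuasiSeparated f := by
  have := quasiCompact_map g f
  have : QuasiCompact (g ≫ pullback.diagonal f) := by rw [diagonal_fac]; infer_instance
  exact ⟨quasiCompact_of_comp_surjective g _⟩

theorem isSeparated_of_comp_surjective [Surjective g] [UniversallyClosed g]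
    [IsSeparated (g ≫ f)] : IsSeparated f := by
  have := universallyClosed_map g f
  have : UniversallyClosed (g ≫ pullback.diagonal f) := by rw [diagonal_fac]; infer_instance
  have : UniversallyClosed (pullback.diagonal f) := UniversallyClosed.of_comp_surjective g _
  exact ⟨IsClosedImmersion.of_isPreimmersion _ (pullback.diagonal f).isClosedMap.isClosed_range⟩

theorem universallyInjective_of_comp_surjective [Surjective g]
    [h : UniversallyInjective (g ≫ f)] : UniversallyInjective f := by
  rw [UniversallyInjective.iff_diagonal] at h ⊢
  have := surjective_map g f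
  have : Surjective (g ≫ pullback.diagonal f) := by rw [diagonal_fac]; infer_instance
  exact Surjective.of_comp g _

theorem surjective_of_comp_injective [Surjective (g ≫ f)] (hf : Function.Injective f) :
    Surjective g := by
  refine ⟨fun x => ?_⟩
  obtain ⟨w, hw⟩ := (g ≫ f).surjective (f x)
  exact ⟨w, hf (by simpa using hw)⟩

theorem universallyInjective_of_comp [h : UniversallyInjective (g ≫ f)] :
    UniversallyInjective g :=
  ((tfae_universallyInjective g).out 1 0
    (a := ∀ (K : Type u) [Field K], Function.Injective (fun a : Spec (.of K) ⟶ W ↦ a ≫ g))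
    (b := UniversallyInjective g)).1 fun K _ a b e =>
    ((tfae_universallyInjective (g ≫ f)).out 0 1 (a := UniversallyInjective (g ≫ f))
      (b := ∀ (K : Type u) [Field K],
        Function.Injective (fun a : Spec (.of K) ⟶ W ↦ a ≫ g ≫ f))).1 h K (by
      have e' : a ≫ g = b ≫ g := e
      change a ≫ g ≫ f = b ≫ g ≫ f
      rw [reassoc_of% e'])

end Groth.Agent.PerfSch.Transfer
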