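import Groth.Agent.PerfSch.Perfection
import Mathlib.RingTheory.LocalRing.ResidueField.Ideal
import Mathlib.RingTheory.Ideal.MinimalPrime.Basic
import Mathlib.RingTheory.IntegralClosure.IsIntegralClosure.Basic

/-!
# A universal homeomorphism between perfect schemes is an isomorphism
-/

universe u

open CategoryTheory CategoryTheory.Limits AlgebraicGeometry Opposite TopologicalSpace

set_option backward.isDefEq.respectTransparency.types false
set_option backward.isDefEq.respectTransparency false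

namespace Groth.Agent.PerfSch.UnivHomeo

open Groth.Agent.PerfSch.Ring Groth.Agent.PerfSch.Perfect

variable {p : ℕ} [hp : Fact p.Prime]

theorem bijective_of_perfect {A B : Type u} [CommRing A] [CommRing B] (φ : A →+* B)
    (hA : PerfRing p A) (hB : PerfRing p B) (hint : φ.IsIntegral)
    (hbij : Function.Bijective (PrimeSpectrum.comap φ))
    (hres : ∀ (𝔮 : Ideal B), 𝔮.IsPrime → ∀ b : B, ∃ (n : ℕ) (a t : A),
      φ t ∉ 𝔮 ∧ φ t * b ^ p ^ n - φ a ∈ 𝔮) :
    Function.Bijective φ := by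
  have hinj : Function.Injective φ := by
    rw [injective_iff_map_eq_zero]
    intro x hx
    have := PerfRing.isReduced hA
    refine IsNilpotent.eq_zero (mem_nilradical.1 ?_)
    rw [nilradical_eq_sInf, Submodule.mem_sInf]
    intro P hP
    obtain ⟨Q, hQ⟩ := hbij.2 ⟨P, hP⟩
    rw [← show Q.asIdeal.comap φ = P from congrArg PrimeSpectrum.asIdeal hQ, Ideal.mem_comap, hx]
    exact zero_mem _
  refine ⟨hinj, fun b => ?_⟩
  have hroot : ∀ (x : B) (N : ℕ), x ^ p ^ N ∈ φ.range → x ∈ φ.range := by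
    rintro x N ⟨r, hr⟩
    obtain ⟨s, rfl⟩ := hA.exists_root r N
    exact ⟨s, hB.eq_of_pow_eq N (by rw [← map_pow]; exact hr)⟩
  algebraize [φ]
  let C := Algebra.adjoin A ({b} : Set B)
  let J : Ideal A :=
    { carrier := {a | ∀ c ∈ C, φ a * c ∈ φ.range}
      add_mem' := fun {x y} hx hy c hc => by
        rw [map_add, add_mul]; exact add_mem (hx c hc) (hy c hc)
      zero_mem' := fun c _ => ⟨0, by simp⟩
      smul_mem' := fun r a ha c hc => by
        rw [smul_eq_mul, map_mul, mul_assoc]; exact mul_mem ⟨r, rfl⟩ (ha c hc) }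
  by_cases hJ : J = ⊤
  · have h1 : (1 : A) ∈ J := hJ ▸ trivial
    obtain ⟨s, hs⟩ := h1 b (Algebra.self_mem_adjoin_singleton A b)
    exact ⟨s, by simpa using hs⟩
  exfalso
  obtain ⟨𝔪, h𝔪, hJ𝔪⟩ := J.exists_le_maximal hJ
  obtain ⟨𝔭, h𝔭, -⟩ := Ideal.exists_minimalPrimes_le hJ𝔪
  have h𝔭prime : 𝔭.IsPrime := h𝔭.1.1
  have hJ𝔭 : J ≤ 𝔭 := h𝔭.1.2
  obtain ⟨Q, hQ⟩ := hbij.2 ⟨𝔭, h𝔭prime⟩
  have hQ𝔭 : Q.asIdeal.comap φ = 𝔭 := congrArg PrimeSpectrum.asIdeal hQ
  let I : Ideal C :=
    { carrier := {x | ∀ c ∈ C, (x : B) * c ∈ φ.range}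
      add_mem' := fun {x y} hx hy c hc => by
        rw [Subalgebra.coe_add, add_mul]; exact add_mem (hx c hc) (hy c hc)
      zero_mem' := fun c _ => ⟨0, by simp⟩
      smul_mem' := fun r x hx c hc => by
        rw [smul_eq_mul, Subalgebra.coe_mul, mul_comm (r : B), mul_assoc]
        exact hx _ (mul_mem r.2 hc) }
  have hclear : ∀ m : C, (m : B) ∈ Q.asIdeal → ∃ (s : A) (k : ℕ), s ∉ 𝔭 ∧
      algebraMap A C s * m ^ k ∈ I := by
    intro m hm
    let M : Submonoid C :=
      Submonoid.map (algebraMap A C) 𝔭.primeCompl ⊔ Submonoid.powers m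
    have hM : ∀ x ∈ M, ∃ (s : A) (k : ℕ), s ∉ 𝔭 ∧ x = algebraMap A C s * m ^ k := by
      intro x hx
      obtain ⟨y, ⟨s, hs, rfl⟩, z, ⟨k, rfl⟩, rfl⟩ := Submonoid.mem_sup.1 hx
      exact ⟨s, k, hs, rfl⟩
    by_contra hne
    push Not at hne
    have hdisj : Disjoint (I : Set C) M := by
      rw [Set.disjoint_left]
      intro x hx hxM
      obtain ⟨s, k, hs, rfl⟩ := hM x hxM
      exact hne s k hs hx
    obtain ⟨P, hP, hIP, hPM⟩ := Ideal.exists_le_prime_disjoint I M hdisj
    have hP1 : P.comap (algebraMap A C) ≤ 𝔭 := fun s hs => by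
      by_contra h
      exact Set.disjoint_left.1 hPM hs
        (Submonoid.mem_sup_left (Submonoid.mem_map_of_mem (algebraMap A C) h))
    have hP2 : J ≤ P.comap (algebraMap A C) := fun a ha => hIP fun c hc => ha c hc
    have hP3 : P.comap (algebraMap A C) = 𝔭 :=
      le_antisymm hP1 (h𝔭.2 ⟨hP.comap _, hP2⟩ hP1)
    have hintC : (algebraMap C B).IsIntegral := by
      refine RingHom.IsIntegral.tower_top (algebraMap A C) (algebraMap C B) ?_
      exact hint
    obtain ⟨P', hP'⟩ := hintC.comap_surjective Subtype.coe_injective ⟨P, hP⟩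
    have hP'' : P'.asIdeal.comap (algebraMap C B) = P := congrArg PrimeSpectrum.asIdeal hP'
    have : P' = Q := by
      refine hbij.1 (PrimeSpectrum.ext ?_)
      change P'.asIdeal.comap φ = Q.asIdeal.comap φ
      rw [hQ𝔭, ← hP3, ← hP'', Ideal.comap_comap]
      rfl
    subst this
    refine Set.disjoint_left.1 hPM ?_ (Submonoid.mem_sup_right (Submonoid.mem_powers m))
    rw [← hP'']
    exact hm
  have hlocal : ∀ c : C, ∃ u : A, u ∉ 𝔭 ∧ φ u * (c : B) ∈ φ.range := by
    intro c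
    obtain ⟨n, a, t, ht, hta⟩ := hres Q.asIdeal Q.isPrime c
    have ht' : t ∉ 𝔭 := fun h => ht (by rw [← hQ𝔭] at h; exact h)
    let m : C := algebraMap A C t * c ^ p ^ n - algebraMap A C a
    obtain ⟨s, k, hs, hsk⟩ := hclear m hta
    have hk : k ≤ p ^ k := (Nat.lt_pow_self hp.out.one_lt).le
    obtain ⟨d, hd⟩ := Nat.exists_eq_add_of_le hk
    have h2 : φ s * (m : B) ^ p ^ k ∈ φ.range := by
      have h := I.mul_mem_right (m ^ d) hsk 1 (one_mem _)
      rw [mul_assoc, ← pow_add, ← hd, mul_one] at h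
      exact h
    refine ⟨s * t ^ p ^ k, fun h => ?_, ?_⟩
    · rcases h𝔭prime.mem_or_mem h with h | h
      · exact hs h
      · exact ht' (h𝔭prime.mem_of_pow_mem _ h)
    apply hroot _ (n + k)
    have h3 : φ s * (φ t ^ p ^ k * (c : B) ^ p ^ (n + k)) ∈ φ.range := by
      have h4 := add_mem h2 (mul_mem (⟨s, rfl⟩ : φ s ∈ φ.range) (⟨a ^ p ^ k, map_pow φ a _⟩ :
        φ a ^ p ^ k ∈ φ.range))
      have : ((m : C) : B) ^ p ^ k = φ t ^ p ^ k * (c : B) ^ p ^ (n + k) - φ a ^ p ^ k := by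
        change (φ t * (c : B) ^ p ^ n - φ a) ^ p ^ k = _
        rw [sub_pow_q hB.1, mul_pow, pow_q_pow_q]
      rw [this, ← mul_add, sub_add_cancel] at h4
      exact h4
    obtain ⟨d', hd'⟩ := Nat.exists_eq_add_of_le (q_pos (p := p) (n + k))
    have h5 := mul_mem h3 (⟨(s * t ^ p ^ k) ^ d', rfl⟩ : φ ((s * t ^ p ^ k) ^ d') ∈ φ.range)
    convert h5 using 1
    rw [mul_pow, hd', map_pow, map_mul, map_pow]
    ring
  classical
  obtain ⟨G, hG⟩ := (show IsIntegral A b from hint b).fg_adjoin_singleton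
  choose u hu hu' using hlocal
  have hGC : ∀ g ∈ G, g ∈ C := fun g hg => by
    change g ∈ Subalgebra.toSubmodule C
    rw [← hG]; exact Submodule.subset_span hg
  let U : A := ∏ g ∈ G.attach, u ⟨g.1, hGC g.1 g.2⟩
  have hU : U ∈ J := by
    intro c hc
    have hc' : c ∈ Submodule.span A (G : Set B) := by rw [hG]; exact hc
    induction hc' using Submodule.span_induction with
    | mem g hg =>
      have : U = (∏ x ∈ G.attach.erase ⟨g, hg⟩, u ⟨x.1, hGC x.1 x.2⟩) * u ⟨g, hGC g hg⟩ :=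
        (Finset.prod_erase_mul _ _ (Finset.mem_attach _ _)).symm
      rw [this, map_mul, mul_assoc]
      exact mul_mem ⟨_, rfl⟩ (hu' ⟨g, hGC g hg⟩)
    | zero => exact ⟨0, by simp⟩
    | add x y hx hy ihx ihy =>
      rw [mul_add]
      exact add_mem (ihx (by change x ∈ Subalgebra.toSubmodule C; rw [← hG]; exact hx))
        (ihy (by change y ∈ Subalgebra.toSubmodule C; rw [← hG]; exact hy))
    | smul r x hx ih =>
      rw [Algebra.smul_def, RingHom.algebraMap_toAlgebra, mul_left_comm]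
      exact mul_mem ⟨r, rfl⟩ (ih (by change x ∈ Subalgebra.toSubmodule C; rw [← hG]; exact hx))
  have : U ∈ 𝔭 := hJ𝔭 hU
  obtain ⟨x, -, hx⟩ := h𝔭prime.prod_mem_iff.1 this
  exact hu _ hx

theorem exists_pow_mem_residue {A B : Type u} [CommRing A] [CommRing B] (φ : A →+* B)
    (hA : (p : A) = 0)
    (hUI : UniversallyInjective (Spec.map (CommRingCat.ofHom φ)))
    (𝔮 : Ideal B) [𝔮.IsPrime] (b : B) : ∃ (n : ℕ) (a t : A),
      φ t ∉ 𝔮 ∧ φ t * b ^ p ^ n - φ a ∈ 𝔮 := by
  let i : (𝔮.comap φ).ResidueField →+* 𝔮.ResidueField :=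
    Ideal.ResidueField.map (𝔮.comap φ) 𝔮 φ rfl
  let _ : Algebra (𝔮.comap φ).ResidueField 𝔮.ResidueField := i.toAlgebra
  have hi : ∀ a : A, algebraMap (𝔮.comap φ).ResidueField 𝔮.ResidueField
      (algebraMap A _ a) = algebraMap B 𝔮.ResidueField (φ a) :=
    fun a => Ideal.ResidueField.map_algebraMap _ _ _ _ _
  have hpi : IsPurelyInseparable (𝔮.comap φ).ResidueField 𝔮.ResidueField := by
    refine (isPurelyInseparable_iff_subsingleton_emb _ _).2 ⟨fun σ τ => ?_⟩
    have h := ((tfae_universallyInjective (Spec.map (CommRingCat.ofHom φ))).out 0 1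
      (a := UniversallyInjective (Spec.map (CommRingCat.ofHom φ)))
      (b := ∀ (K : Type u) [Field K], Function.Injective
        (fun g : Spec (.of K) ⟶ Spec (.of B) ↦ g ≫ Spec.map (CommRingCat.ofHom φ)))).1 hUI
      (AlgebraicClosure 𝔮.ResidueField)
    have e : σ.toRingHom.comp (algebraMap B 𝔮.ResidueField) =
        τ.toRingHom.comp (algebraMap B 𝔮.ResidueField) := by
      have e' := @h (Spec.map (CommRingCat.ofHom (σ.toRingHom.comp (algebraMap B 𝔮.ResidueField))))
        (Spec.map (CommRingCat.ofHom (τ.toRingHom.comp (algebraMap B 𝔮.ResidueField)))) (by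
          simp only [← Spec.map_comp]
          congr 1
          ext a
          change σ (algebraMap B _ (φ a)) = τ (algebraMap B _ (φ a))
          rw [← hi, AlgHom.commutes, AlgHom.commutes])
      exact congrArg CommRingCat.Hom.hom (Spec.map_injective e')
    exact AlgHom.coe_ringHom_injective (Ideal.ResidueField.ringHom_ext e)
  have hk : CharP (𝔮.comap φ).ResidueField p := (CharP.charP_iff_prime_eq_zero hp.out).2
    (by simpa using congrArg (algebraMap A (𝔮.comap φ).ResidueField) hA)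
  have : ExpChar (𝔮.comap φ).ResidueField p := ExpChar.prime hp.out
  obtain ⟨n, z, hz⟩ := IsPurelyInseparable.pow_mem (𝔮.comap φ).ResidueField p
    (algebraMap B 𝔮.ResidueField b)
  obtain ⟨x, y, hy, hxy⟩ := IsFractionRing.div_surjective (A ⧸ 𝔮.comap φ) z
  obtain ⟨a, rfl⟩ := Ideal.Quotient.mk_surjective x
  obtain ⟨t, rfl⟩ := Ideal.Quotient.mk_surjective y
  have ht : φ t ∉ 𝔮 := fun h =>
    nonZeroDivisors.ne_zero hy (Ideal.Quotient.eq_zero_iff_mem.2 (Ideal.mem_comap.2 h))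
  refine ⟨n, a, t, ht, ?_⟩
  have ht' : algebraMap B 𝔮.ResidueField (φ t) ≠ 0 := fun h =>
    ht (Ideal.algebraMap_residueField_eq_zero.1 h)
  rw [← Ideal.algebraMap_residueField_eq_zero, map_sub, map_mul, map_pow, ← hz, ← hxy, map_div₀]
  change _ * (algebraMap _ _ (algebraMap A _ a) / algebraMap _ _ (algebraMap A _ t)) - _ = 0
  rw [hi, hi, mul_div_cancel₀ _ ht', sub_self]

theorem isIso_of_isAffine {X Y : Scheme.{u}} [IsAffine X] [IsAffine Y] (f : X ⟶ Y)
    (hX : PerfRing p Γ(X, ⊤)) (hY : PerfRing p Γ(Y, ⊤)) (h1 : UniversallyInjective f)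
    (h2 : Surjective f) (h3 : UniversallyClosed f) : IsIso f := by
  let e := arrowIsoSpecΓOfIsAffine f
  have h1' : UniversallyInjective (Spec.map f.appTop) :=
    (MorphismProperty.arrow_mk_iso_iff (@UniversallyInjective) e).1 h1
  have h2' : Surjective (Spec.map f.appTop) :=
    (MorphismProperty.arrow_mk_iso_iff (@Surjective) e).1 h2
  have h3' : UniversallyClosed (Spec.map f.appTop) :=
    (MorphismProperty.arrow_mk_iso_iff (@UniversallyClosed) e).1 h3
  have : IsIntegralHom (Spec.map f.appTop) :=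
    (IsIntegralHom.iff_universallyClosed_and_isAffineHom).2 ⟨h3', inferInstance⟩
  have hint : f.appTop.hom.IsIntegral := IsIntegralHom.SpecMap_iff.1 this
  have := bijective_of_perfect f.appTop.hom hY hX hint
    ⟨(Spec.map f.appTop).injective, (Spec.map f.appTop).surjective⟩
    (fun 𝔮 _ b => exists_pow_mem_residue f.appTop.hom hY.1 h1' 𝔮 b)
  exact (MorphismProperty.arrow_mk_iso_iff (MorphismProperty.isomorphisms Scheme) e).2
    (isIso_SpecMap_iff.2 this)

theorem isIso {X Y : Scheme.{u}} (f : X ⟶ Y) (hX : _root_.PerfSch.IsPerfect p X)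
    (hY : _root_.PerfSch.IsPerfect p Y) (hf : FlatMor.IsUnivHomeo f) : IsIso f := by
  have := isAffineHom_of_isUnivHomeo f hf
  obtain ⟨h1, h2, h3⟩ := (isUnivHomeo_iff f).1 hf
  refine IsZariskiLocalAtTarget.of_iSup_eq_top (P := MorphismProperty.isomorphisms Scheme)
    _ (iSup_affineOpens_eq_top Y) fun U => ?_
  have : IsAffine U.1 := U.2
  have : IsAffine (f ⁻¹ᵁ U.1 : X.Opens) := U.2.preimage f
  exact isIso_of_isAffine _ (hX ((f ⁻¹ᵁ U.1).ι ''ᵁ ⊤)) (hY (U.1.ι ''ᵁ ⊤))
    (IsZariskiLocalAtTarget.restrict h1 _) (IsZariskiLocalAtTarget.restrict h2 _)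
    (IsZariskiLocalAtTarget.restrict h3 _)

end Groth.Agent.PerfSch.UnivHomeo
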